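import Mathlib.RingTheory.AdicCompletion.Basic
import Mathlib.RingTheory.Nakayama
import Mathlib.RingTheory.Finiteness.Basic
import Mathlib.Algebra.Module.Projective
import Mathlib.LinearAlgebra.FreeModule.Basic
import Mathlib.LinearAlgebra.FreeModule.Finite.Basic

/-!
# Closed submodules of finite free modules over complete rings
-/

set_option autoImplicit false
universe u v

noncomputable section

namespace GrothLib.FFp7

variable {S : Type u} [CommRing S] (𝔍 : Ideal S) {ι κ κ' : Type*}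

theorem mem_smul_span_range [Fintype κ] {N : Type*} [AddCommGroup N] [Module S N] (I : Ideal S) (r : κ → N) (y : N) :
    y ∈ I • Submodule.span S (Set.range r) ↔ ∃ c : κ → S, (∀ j, c j ∈ I) ∧ y = ∑ j, c j • r j := by
  rw [Submodule.mem_ideal_smul_span_iff_exists_sum]
  constructor
  · rintro ⟨c, hc, rfl⟩
    exact ⟨c, hc, Finsupp.sum_fintype _ _ (by simp)⟩
  · rintro ⟨c, hc, rfl⟩
    exact ⟨Finsupp.equivFunOnFinite.symm c, hc, by rw [Finsupp.sum_fintype _ _ (by simp)]; simp⟩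

theorem coord_mem {I : Ideal S} {y : ι → S} (hy : y ∈ I • (⊤ : Submodule S (ι → S))) (i : ι) : y i ∈ I := by
  refine Submodule.smul_induction_on hy (fun a ha z _ => ?_) fun a b ha hb => add_mem ha hb
  exact I.mul_mem_right _ ha

/-- Elements approximated by a finitely generated submodule with the Artin–Rees property lie in it. -/
theorem mem_smul_span_of_approx [IsAdicComplete 𝔍 S] [Fintype κ] (r : κ → ι → S) (n₀ : ℕ)
    (hstep : ∀ (k : ℕ) (y : ι → S), y ∈ Submodule.span S (Set.range r) →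
      y ∈ 𝔍 ^ (k + n₀) • (⊤ : Submodule S (ι → S)) →
      y ∈ 𝔍 ^ k • Submodule.span S (Set.range r) ⊔ 𝔍 ^ (k + n₀ + 1) • ⊤)
    (a : ι → S) (hc : ∀ m, a ∈ Submodule.span S (Set.range r) ⊔ 𝔍 ^ m • ⊤) (c : ℕ)
    (ha : a ∈ 𝔍 ^ (c + n₀) • (⊤ : Submodule S (ι → S))) : a ∈ 𝔍 ^ c • Submodule.span S (Set.range r) := by
  classical
  set T := Submodule.span S (Set.range r)
  have hs : ∀ (k : ℕ) (b : ι → S), (∀ m, b ∈ T ⊔ 𝔍 ^ m • ⊤) → b ∈ 𝔍 ^ (k + n₀) • (⊤ : Submodule S (ι → S)) →
      ∃ d : κ → S, (∀ j, d j ∈ 𝔍 ^ k) ∧ b - ∑ j, d j • r j ∈ 𝔍 ^ (k + n₀ + 1) • (⊤ : Submodule S (ι → S)) := by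
    intro k b hb hbk
    obtain ⟨y, hy, e, he, rfl⟩ := Submodule.mem_sup.1 (hb (k + n₀ + 1))
    have he' : e ∈ 𝔍 ^ (k + n₀) • (⊤ : Submodule S (ι → S)) :=
      Submodule.smul_mono_left (Ideal.pow_le_pow_right (Nat.le_succ _)) he
    obtain ⟨t, ht, e', he₁, hy'⟩ := Submodule.mem_sup.1 (hstep k y hy (by simpa using sub_mem hbk he'))
    obtain ⟨d, hd, rfl⟩ := (mem_smul_span_range _ r t).1 ht
    refine ⟨d, hd, ?_⟩
    rw [← hy', show ∀ u v w : ι → S, u + v + w - u = v + w from fun u v w => by abel]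
    exact add_mem he₁ he
  choose! next hnext hnext' using hs
  let acc : ℕ → κ → S := fun i => Nat.rec 0 (fun i D => D + next (c + i) (a - ∑ j, D j • r j)) i
  have key : ∀ i, (∀ m, a - ∑ j, acc i j • r j ∈ T ⊔ 𝔍 ^ m • ⊤) ∧
      a - ∑ j, acc i j • r j ∈ 𝔍 ^ (c + i + n₀) • (⊤ : Submodule S (ι → S)) ∧ ∀ j, acc i j ∈ 𝔍 ^ c := by
    intro i
    induction i with
    | zero =>
      refine ⟨fun m => ?_, ?_, fun j => Submodule.zero_mem _⟩
      · simpa [acc] using hc m
      · simpa [acc] using ha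
    | succ i ih =>
      have e : a - ∑ j, acc (i + 1) j • r j = (a - ∑ j, acc i j • r j) -
          ∑ j, next (c + i) (a - ∑ j, acc i j • r j) j • r j := by
        simp only [acc, Pi.add_apply, add_smul, Finset.sum_add_distrib]
        abel
      refine ⟨fun m => ?_, ?_, fun j => ?_⟩
      · rw [e]
        exact sub_mem (ih.1 m) (Submodule.mem_sup_left (Submodule.sum_mem _ fun j _ =>
          Submodule.smul_mem _ _ (Submodule.subset_span ⟨j, rfl⟩)))
      · rw [e, show c + (i + 1) + n₀ = c + i + n₀ + 1 by omega]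
        exact hnext' _ _ ih.1 ih.2.1
      · exact add_mem (ih.2.2 j) (Ideal.pow_le_pow_right (Nat.le_add_right c i) (hnext _ _ ih.1 ih.2.1 j))
  have hstep' : ∀ i j, acc (i + 1) j - acc i j ∈ 𝔍 ^ i := fun i j => by
    rw [show acc (i + 1) j - acc i j = next (c + i) (a - ∑ j, acc i j • r j) j by simp [acc]]
    exact Ideal.pow_le_pow_right (by omega) (hnext _ _ (key i).1 (key i).2.1 j)
  have hlim : ∀ j, ∃ L : S, ∀ n, acc n j - L ∈ 𝔍 ^ n := by
    intro j
    obtain ⟨L, hL⟩ := IsPrecomplete.prec (I := 𝔍) (M := S) inferInstance (f := fun n => acc n j) (by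
      intro m n hmn
      induction n, hmn using Nat.le_induction with
      | base => rfl
      | succ n hn ih =>
        refine ih.trans (SModEq.symm ?_)
        rw [SModEq.sub_mem, smul_eq_mul, Ideal.mul_top]
        exact Ideal.pow_le_pow_right hn (hstep' n j))
    refine ⟨L, fun n => ?_⟩
    have := SModEq.sub_mem.1 (hL n)
    rwa [smul_eq_mul, Ideal.mul_top] at this
  choose L hL using hlim
  refine (mem_smul_span_range _ r a).2 ⟨L, fun j => ?_, funext fun i => ?_⟩
  · have := sub_mem ((key c).2.2 j) (hL j c)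
    rwa [sub_sub_cancel] at this
  · refine sub_eq_zero.1 (IsHausdorff.haus (I := 𝔍) inferInstance _ fun n => ?_)
    rw [SModEq.sub_mem, sub_zero, smul_eq_mul, Ideal.mul_top]
    have h1 : (a - ∑ j, acc n j • r j) i ∈ 𝔍 ^ n :=
      Ideal.pow_le_pow_right (by omega) (coord_mem (key n).2.1 i)
    have h2 : ∀ j, (acc n j - L j) * r j i ∈ 𝔍 ^ n := fun j => (𝔍 ^ n).mul_mem_right _ (hL j n)
    have h3 := add_mem h1 ((𝔍 ^ n).sum_mem (t := Finset.univ) fun j _ => h2 j)
    refine (congrArg (· ∈ 𝔍 ^ n) ?_).mp h3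
    simp only [Pi.sub_apply, Finset.sum_apply, Pi.smul_apply, smul_eq_mul, sub_mul, Finset.sum_sub_distrib]
    abel

variable {N : Type v} [AddCommGroup N] [Module S N]

/-- A presentation with finitely generated relations satisfying the first Artin–Rees condition. -/
def GoodPres : Prop :=
  ∃ (n : ℕ) (β : (Fin n → S) →ₗ[S] N), Function.Surjective β ∧ (LinearMap.ker β).FG ∧
    ∃ c, LinearMap.ker β ⊓ 𝔍 ^ c • ⊤ ≤ 𝔍 • LinearMap.ker β

/-- Relations of any generators are those one has up to all powers. -/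
theorem ker_le_of_approx [Finite ι] (h𝔍 : 𝔍 ≤ (⊥ : Ideal S).jacobson) (hN : GoodPres 𝔍 (N := N))
    (α : (ι → S) →ₗ[S] N) (hα : Function.Surjective α) (T : Submodule S (ι → S)) (hT : T ≤ LinearMap.ker α)
    (happ : ∀ k, LinearMap.ker α ≤ T ⊔ 𝔍 ^ (k + 1) • ⊤) : LinearMap.ker α ≤ T := by
  obtain ⟨n, β, hβ, hfg, c, hc⟩ := hN
  obtain ⟨p, hp⟩ := Module.projective_lifting_property α β hα
  obtain ⟨q, hq⟩ := Module.projective_lifting_property β α hβ
  have hp' : ∀ y, α (p y) = β y := fun y => LinearMap.congr_fun hp y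
  have hq' : ∀ x, β (q x) = α x := fun x => LinearMap.congr_fun hq x
  let π : (ι → S) →ₗ[S] (ι → S) := LinearMap.id - p ∘ₗ q
  have hπ : LinearMap.range π ≤ LinearMap.ker α := by
    rintro _ ⟨x, rfl⟩
    simp [π, hp', hq']
  have hker : LinearMap.ker α ≤ LinearMap.range π ⊔ (LinearMap.ker β).map p := fun x hx =>
    Submodule.mem_sup.2 ⟨π x, ⟨x, rfl⟩, p (q x),
      ⟨q x, by simpa [hq'] using hx, rfl⟩, by simp [π]⟩
  have hfg' : (LinearMap.ker α).FG := by
    have e : LinearMap.ker α = LinearMap.range π ⊔ (LinearMap.ker β).map p := by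
      refine le_antisymm hker (sup_le hπ ?_)
      rintro _ ⟨y, hy, rfl⟩
      simpa [hp'] using hy
    rw [e, ← Submodule.map_top]
    exact ((Module.Finite.fg_top).map π).sup (hfg.map p)
  refine Submodule.le_of_le_smul_of_le_jacobson_bot hfg' h𝔍 fun x hx => ?_
  obtain ⟨t, ht, e, he, rfl⟩ := Submodule.mem_sup.1 (happ c hx)
  refine Submodule.mem_sup.2 ⟨t, ht, e, ?_, rfl⟩
  have hea : e ∈ LinearMap.ker α := by simpa [LinearMap.mem_ker.1 (hT ht)] using hx
  have hsplit : e = π e + p (q e) := by simp [π]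
  rw [hsplit]
  refine add_mem ?_ ?_
  · have h1 : π e ∈ (𝔍 ^ (c + 1) • (⊤ : Submodule S (ι → S))).map π := Submodule.mem_map_of_mem he
    rw [Submodule.map_smul'', Submodule.map_top] at h1
    exact Submodule.smul_mono (Ideal.pow_le_self (Nat.succ_ne_zero c)) hπ h1
  · have h1 : q e ∈ (𝔍 ^ (c + 1) • (⊤ : Submodule S (ι → S))).map q := Submodule.mem_map_of_mem he
    rw [Submodule.map_smul''] at h1
    have h2 := hc ⟨(by simpa [hq'] using hea : q e ∈ LinearMap.ker β),
      Submodule.smul_mono (Ideal.pow_le_pow_right (Nat.le_succ c)) le_top h1⟩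
    have h3 : p (q e) ∈ (𝔍 • LinearMap.ker β).map p := Submodule.mem_map_of_mem h2
    rw [Submodule.map_smul''] at h3
    refine Submodule.smul_mono le_rfl ?_ h3
    rintro _ ⟨y, hy, rfl⟩
    simpa [hp'] using hy

/-- Finitely many relations with the Artin–Rees property give a good presentation. -/
theorem goodPres_of_relations [IsAdicComplete 𝔍 S] [Fintype κ'] {n : ℕ} (β : (Fin n → S) →ₗ[S] N)
    (hβ : Function.Surjective β) (r : κ' → Fin n → S) (hr : ∀ j, β (r j) = 0) (n₀ : ℕ)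
    (hstep : ∀ (k : ℕ) (y : Fin n → S), y ∈ Submodule.span S (Set.range r) →
      y ∈ 𝔍 ^ (k + n₀) • (⊤ : Submodule S (Fin n → S)) →
      y ∈ 𝔍 ^ k • Submodule.span S (Set.range r) ⊔ 𝔍 ^ (k + n₀ + 1) • ⊤)
    (happ : ∀ m, LinearMap.ker β ≤ Submodule.span S (Set.range r) ⊔ 𝔍 ^ m • ⊤) : GoodPres 𝔍 (N := N) := by
  have hle : Submodule.span S (Set.range r) ≤ LinearMap.ker β :=
    Submodule.span_le.2 (Set.range_subset_iff.2 hr)
  have key := fun (c : ℕ) (a : Fin n → S) (ha : a ∈ LinearMap.ker β) hac =>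
    mem_smul_span_of_approx 𝔍 r n₀ hstep a (fun m => happ m ha) c hac
  have e : Submodule.span S (Set.range r) = LinearMap.ker β := by
    refine le_antisymm hle fun a ha => ?_
    obtain ⟨y, hy, e, he, rfl⟩ := Submodule.mem_sup.1 (happ n₀ ha)
    refine add_mem hy ?_
    have h := key 0 e (by simpa [LinearMap.mem_ker.1 (hle hy)] using ha) (by simpa using he)
    rwa [pow_zero, Ideal.one_eq_top, Submodule.top_smul] at h
  refine ⟨n, β, hβ, e ▸ Submodule.fg_span (Set.finite_range r), 1 + n₀, ?_⟩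
  rintro a ⟨ha, hac⟩
  have := key 1 a ha hac
  rwa [pow_one, e] at this

end GrothLib.FFp7
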