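import Groth.Agent.Lib.FFp7.Local
import Groth.Agent.Lib.FFormal7.Adjunct
import Groth.Agent.Lib.QCoh.Qcqs
import Groth.Agent.Lib.UnitsThick26.FlatIdeal

/-!
# The system of inverse images is the completion of its global sections
-/

set_option autoImplicit false
set_option linter.style.haveILetI false
set_option linter.unusedSectionVars false
universe u

open CategoryTheory CategoryTheory.Limits AlgebraicGeometry TopologicalSpace Opposite
open GrothLib.FComp7 GrothLib.FMod7

noncomputable section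

namespace GrothLib.FFp7

theorem isIso_of_bijective_top {R : CommRingCat.{u}} {P Q : (Spec R).Modules} (f : P ⟶ Q) [P.IsQuasicoherent]
    [Q.IsQuasicoherent] (hf : Function.Bijective (f.app ⊤)) : IsIso f := by
  let adj := tilde.adjunction (R := R)
  haveI h1 : IsIso (adj.counit.app P) := Scheme.Modules.isIso_fromTildeΓ_of_isQuasicoherent (R := R) P
  haveI h2 : IsIso (adj.counit.app Q) := Scheme.Modules.isIso_fromTildeΓ_of_isQuasicoherent (R := R) Q
  haveI : IsIso ((moduleSpecΓFunctor (R := R)).map f) := (ConcreteCategory.isIso_iff_bijective _).2 hf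
  haveI : IsIso (adj.counit.app P ≫ f) := by
    have e : (moduleSpecΓFunctor ⋙ tilde.functor R).map f ≫ adj.counit.app Q = adj.counit.app P ≫ f :=
      adj.counit.naturality f
    rw [← e]
    haveI : IsIso ((moduleSpecΓFunctor ⋙ tilde.functor R).map f) :=
      inferInstanceAs (IsIso ((tilde.functor R).map ((moduleSpecΓFunctor (R := R)).map f)))
    infer_instance
  exact IsIso.of_isIso_comp_left (adj.counit.app P) f

theorem isIso_of_pushforward {X Y : Scheme.{u}} (p : X ⟶ Y) [IsClosedImmersion p] {P Q : X.Modules} (g : P ⟶ Q)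
    [IsIso ((Scheme.Modules.pushforward p).map g)] : IsIso g := by
  refine UnitsThick26.isIso_of_bijective_affine g fun V _ => ?_
  obtain ⟨O, hO, hOV⟩ := p.isClosedEmbedding.isInducing.isOpen_iff.1 V.2
  have e : p ⁻¹ᵁ ⟨O, hO⟩ = V := Opens.ext hOV
  have hb := ConcreteCategory.bijective_of_isIso (((Scheme.Modules.pushforward p).map g).app ⟨O, hO⟩)
  rw [← e]
  exact hb

variable {R : CommRingCat.{u}} {𝓘 : (Spec R).IdealSheafData} {J : Ideal R}
  {h : (FSch.completionAlong (Spec R) 𝓘).IsFormal} (F : FSch.ModF (FSch.completionAlong (Spec R) 𝓘) h)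

/-- The projection of global sections, in the sections over the preimage. -/
def gsec (k : ℕ) : Glob F →+ Γ((pullSys h F).F k, FSch.completionToX (Spec R) 𝓘 k ⁻¹ᵁ (topO (R := R)).1) :=
  (((pullSys h F).F k).presheaf.map (homOfLE (lvU_cOpen h (topO (R := R)).1 k).ge).op).hom.comp (gpr F k)

theorem gsec_smul (k : ℕ) (r : R) (x : Glob F) : gsec F k (r • x) =
    (FSch.completionToX (Spec R) 𝓘 k).app (topO (R := R)).1 (scal (topO (R := R)).1 r) • gsec F k x := by
  show ((pullSys h F).F k).presheaf.map _ (gpr F k (r • x)) = _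
  rw [gpr_smul]
  refine (Scheme.Modules.map_smul _ _ _ _).trans ?_
  refine congrArg (fun c => c • gsec F k x) ?_
  refine (congrArg (((FSch.completionAlong (Spec R) 𝓘).X k).presheaf.map _)
    (proj_sharp h (topO (R := R)).1 k (scal (topO (R := R)).1 r))).trans ?_
  rw [Scheme.Hom.app_eq_appLE]
  exact ConcreteCategory.congr_hom (Scheme.Hom.appLE_map (FSch.completionToX (Spec R) 𝓘 k) _ _) _

/-- The map to the direct image of a level. -/
def levMap (k : ℕ) : tilde (ModuleCat.of R (Glob F)) ⟶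
    (Scheme.Modules.pushforward (FSch.completionToX (Spec R) 𝓘 k)).obj ((pullSys h F).F k) :=
  (tilde.adjunction.homEquiv _ _).symm (ModuleCat.ofHom
    (Y := moduleSpecΓFunctor.obj ((Scheme.Modules.pushforward (FSch.completionToX (Spec R) 𝓘 k)).obj ((pullSys h F).F k)))
    { toFun := fun x => gsec F k x
      map_add' := fun x y => map_add (gsec F k) x y
      map_smul' := fun r x => (gsec_smul F k r x).trans (Scheme.Modules.smul_Spec_def (R := R) r
        (show Γ((Scheme.Modules.pushforward (FSch.completionToX (Spec R) 𝓘 k)).obj ((pullSys h F).F k), ⊤) from gsec F k x)).symm })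

theorem levMap_toU (k : ℕ) (x : Glob F) :
    (levMap F k).app (topO (R := R)).1 (toU (ModuleCat.of R (Glob F)) (topO (R := R)).1 x) = gsec F k x := by
  let adj := tilde.adjunction (R := R)
  have e := adj.homEquiv_unit (ModuleCat.of R (Glob F)) _ (levMap F k)
  rw [levMap, Equiv.apply_symm_apply] at e
  exact (congrArg (fun φ : ModuleCat.of R (Glob F) ⟶ _ => φ.hom x) e).symm

theorem levMap_ext {k : ℕ} {v : tilde (ModuleCat.of R (Glob F)) ⟶
    (Scheme.Modules.pushforward (FSch.completionToX (Spec R) 𝓘 k)).obj ((pullSys h F).F k)}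
    (hv : ∀ x, v.app (topO (R := R)).1 (toU (ModuleCat.of R (Glob F)) (topO (R := R)).1 x) = gsec F k x) :
    v = levMap F k := by
  let adj := tilde.adjunction (R := R)
  refine (adj.homEquiv _ _).injective ?_
  rw [adj.homEquiv_unit, adj.homEquiv_unit]
  exact ModuleCat.hom_ext (LinearMap.ext fun x => (hv x).trans (levMap_toU F k x).symm)

/-- The comparison on a level. -/
def levHom (k : ℕ) :
    (Scheme.Modules.pullback (FSch.completionToX (Spec R) 𝓘 k)).obj (tilde (ModuleCat.of R (Glob F))) ⟶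
      (pullSys h F).F k :=
  ((Scheme.Modules.pullbackPushforwardAdjunction (FSch.completionToX (Spec R) 𝓘 k)).homEquiv _ _).symm (levMap F k)

theorem adjunct_levHom (k : ℕ) : FFormal7.adjunct (FSch.completionToX (Spec R) 𝓘 k) (levHom F k) = levMap F k :=
  (Adjunction.homEquiv_unit _ _ _ _).symm.trans (Equiv.apply_symm_apply _ _)

theorem toPush_eq {𝔛 : FSch.Sys.{u}} (𝔐 : FSch.ModSys 𝔛) (k : ℕ) :
    𝔐.toPush k = (Scheme.Modules.pullbackPushforwardAdjunction (𝔛.ι k)).unit.app (𝔐.F (k + 1)) ≫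
      (Scheme.Modules.pushforward (𝔛.ι k)).map (𝔐.e k).hom :=
  Adjunction.homEquiv_unit _ _ _ _

theorem adjunct_lowerMap_app {X X' Y : Scheme.{u}} {i : X ⟶ X'} {e' : X' ⟶ Y} {e : X ⟶ Y} (he : e = i ≫ e')
    {M : Y.Modules} {F' : X'.Modules} {G : X.Modules} (α : (Scheme.Modules.pullback e').obj M ⟶ F')
    (ψ : (Scheme.Modules.pullback i).obj F' ≅ G) (T : Y.Opens) (m : Γ(M, T)) :
    (FFormal7.adjunct e (FFormal7.lowerMap he α ψ)).app T m =
      G.presheaf.map (homOfLE (le_of_eq (by rw [he]; rfl) : e ⁻¹ᵁ T ≤ i ⁻¹ᵁ (e' ⁻¹ᵁ T))).op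
        (((Scheme.Modules.pullbackPushforwardAdjunction i).unit.app F' ≫ (Scheme.Modules.pushforward i).map ψ.hom).app
          (e' ⁻¹ᵁ T) ((FFormal7.adjunct e' α).app T m)) := by
  rw [FFormal7.adjunct_lowerMap]
  subst he
  rfl

theorem comm_of_lowerMap {X X' Y : Scheme.{u}} {i : X ⟶ X'} {e' : X' ⟶ Y} {e : X ⟶ Y} (he : e = i ≫ e')
    {M : Y.Modules} {F' : X'.Modules} {G : X.Modules} (α : (Scheme.Modules.pullback e').obj M ⟶ F')
    (ψ : (Scheme.Modules.pullback i).obj F' ≅ G) :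
    (Scheme.Modules.pullback i).map α ≫ ψ.hom =
      ((Scheme.Modules.pullbackComp i e' ≪≫ Scheme.Modules.pullbackCongr he.symm).app M).hom ≫
        FFormal7.lowerMap he α ψ := by
  subst he
  simp [FFormal7.lowerMap, Scheme.Modules.pullbackCongr]

theorem res_toPush {𝔛 : FSch.Sys.{u}} (h : 𝔛.IsFormal) (U : (𝔛.X 0).Opens) (G : ∀ k, (𝔛.X k).Modules)
    (t : ∀ k, G (k + 1) ⟶ (Scheme.Modules.pushforward (𝔛.ι k)).obj (G k)) (k : ℕ) {V : (𝔛.X (k + 1)).Opens}
    {W : (𝔛.X k).Opens} (hV : V ≤ 𝔛.lvU h (k + 1) U) (hW : W ≤ 𝔛.lvU h k U) (hWV : W ≤ 𝔛.ι k ⁻¹ᵁ V)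
    (m : MSec h U G (k + 1)) :
    (G k).presheaf.map (homOfLE hWV).op ((t k).app V ((G (k + 1)).presheaf.map (homOfLE hV).op m)) =
      (G k).presheaf.map (homOfLE hW).op (sTrans h U G t k m) := by
  rw [show (t k).app V ((G (k + 1)).presheaf.map (homOfLE hV).op m) =
    (G k).presheaf.map ((Opens.map (𝔛.ι k).base).map (homOfLE hV)).op ((t k).app (𝔛.lvU h (k + 1) U) m) from
      PresheafOfModules.naturality_apply (t k).val (homOfLE hV).op m]
  exact (ConcreteCategory.congr_hom ((G k).presheaf.map_comp _ _) _).symm.trans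
    ((congrArg (fun t' => (G k).presheaf.map t' _) (Subsingleton.elim _ _)).trans
      (ConcreteCategory.congr_hom ((G k).presheaf.map_comp _ _) _))

theorem adjunct_lowerMap_sys {𝔛 : FSch.Sys.{u}} (h : 𝔛.IsFormal) (U : (𝔛.X 0).Opens) (𝔐 : FSch.ModSys 𝔛) (k : ℕ)
    {Y : Scheme.{u}} {e' : 𝔛.X (k + 1) ⟶ Y} {e : 𝔛.X k ⟶ Y} (he : e = 𝔛.ι k ≫ e') {M : Y.Modules}
    (α : (Scheme.Modules.pullback e').obj M ⟶ 𝔐.F (k + 1)) (T : Y.Opens)
    (hV : e' ⁻¹ᵁ T ≤ 𝔛.lvU h (k + 1) U) (hW : e ⁻¹ᵁ T ≤ 𝔛.lvU h k U) (m : Γ(M, T)) (g : MSec h U 𝔐.F (k + 1))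
    (hg : (FFormal7.adjunct e' α).app T m = (𝔐.F (k + 1)).presheaf.map (homOfLE hV).op g) :
    (FFormal7.adjunct e (FFormal7.lowerMap he α (𝔐.e k))).app T m =
      (𝔐.F k).presheaf.map (homOfLE hW).op (sTrans h U 𝔐.F 𝔐.toPush k g) := by
  rw [adjunct_lowerMap_app, hg, ← toPush_eq]
  exact res_toPush h U 𝔐.F 𝔐.toPush k hV hW _ g

theorem comm_of_lowerMap' {X X' Y : Scheme.{u}} {i : X ⟶ X'} {e' : X' ⟶ Y} {e : X ⟶ Y} (he : e = i ≫ e')
    {M : Y.Modules} {F' : X'.Modules} {G : X.Modules} (α : (Scheme.Modules.pullback e').obj M ⟶ F')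
    (ψ : (Scheme.Modules.pullback i).obj F' ≅ G)
    {l : Scheme.Modules.pullback e' ⋙ Scheme.Modules.pullback i ≅ Scheme.Modules.pullback e}
    (hl : l = Scheme.Modules.pullbackComp i e' ≪≫ Scheme.Modules.pullbackCongr he.symm)
    {g : (Scheme.Modules.pullback e).obj M ⟶ G} (hg : FFormal7.lowerMap he α ψ = g) :
    (Scheme.Modules.pullback i).map α ≫ ψ.hom = (l.app M).hom ≫ g := by
  subst hl hg
  exact comm_of_lowerMap he α ψ

theorem lowerMap_levHom (k : ℕ) : FFormal7.lowerMap (FSch.completionToX_comm (Spec R) 𝓘 k).symm (levHom F (k + 1))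
    ((pullSys h F).e k) = levHom F k := by
  refine FFormal7.adjunct_injective _ ((levMap_ext F fun x => ?_).trans (adjunct_levHom F k).symm)
  refine (adjunct_lowerMap_sys h (cOpen (𝓘 := 𝓘) (topO (R := R)).1) (pullSys h F) k
    (FSch.completionToX_comm (Spec R) 𝓘 k).symm (levHom F (k + 1)) (topO (R := R)).1
    (lvU_cOpen h (topO (R := R)).1 (k + 1)).ge (lvU_cOpen h (topO (R := R)).1 k).ge
    (toU (ModuleCat.of R (Glob F)) (topO (R := R)).1 x) (gpr F (k + 1) x) ?_).trans ?_
  · exact (congrArg (fun φ : tilde (ModuleCat.of R (Glob F)) ⟶ _ =>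
      φ.app (topO (R := R)).1 (toU (ModuleCat.of R (Glob F)) (topO (R := R)).1 x))
      (adjunct_levHom F (k + 1))).trans (levMap_toU F (k + 1) x)
  · exact congrArg (((pullSys h F).F k).presheaf.map _) (sTrans_sProj h _ _ _ k _)

theorem comm_complMod {X : Scheme.{u}} {𝓙 : X.IdealSheafData} (M : X.Modules) (𝔐 : FSch.ModSys (FSch.completionAlong X 𝓙))
    (g : ∀ k, (Scheme.Modules.pullback (FSch.completionToX X 𝓙 k)).obj M ⟶ 𝔐.F k)
    (hg : ∀ k, FFormal7.lowerMap (FSch.completionToX_comm X 𝓙 k).symm (g (k + 1)) (𝔐.e k) = g k) (k : ℕ) :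
    (Scheme.Modules.pullback ((FSch.completionAlong X 𝓙).ι k)).map (g (k + 1)) ≫ (𝔐.e k).hom =
      ((FSch.complMod 𝓙 M).e k).hom ≫ g k := by
  exact comm_of_lowerMap' (FSch.completionToX_comm X 𝓙 k).symm (g (k + 1)) (𝔐.e k) (l := FSch.complTransIso 𝓙 k)
    (by rw [FSch.complTransIso]) (hg k)

/-- The comparison of systems. -/
def sysHom : FSch.complMod 𝓘 (tilde (ModuleCat.of R (Glob F))) ⟶ pullSys h F :=
  ⟨levHom F, comm_complMod (tilde (ModuleCat.of R (Glob F))) (pullSys h F) (levHom F) (lowerMap_levHom F)⟩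

variable [FSch.IsCohF (FSch.completionAlong (Spec R) 𝓘) h F]
  (h𝓘 : ∀ U, 𝓘.ideal U = J.map (scal U.1)) (hJ : J.FG) [IsAdicComplete J R]
include h𝓘 hJ

theorem isIso_levHom (k : ℕ) : IsIso (levHom F k) := by
  let p := FSch.completionToX (Spec R) 𝓘 k
  haveI : IsClosedImmersion p := inferInstanceAs (IsClosedImmersion (𝓘 ^ (k + 1)).subschemeι)
  let M := tilde (ModuleCat.of R (Glob F))
  haveI hqM : M.IsQuasicoherent := isQCoh_tilde _
  haveI := ((isCoh_pullSys (F := F)) k).1
  haveI : ((Scheme.Modules.pullback p).obj M).IsQuasicoherent := FittSheaf.isQuasicoherent_pullback p M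
  haveI : ((Scheme.Modules.pushforward p).obj ((Scheme.Modules.pullback p).obj M)).IsQuasicoherent :=
    QCoh.isQuasicoherent_pushforward p _
  haveI : ((Scheme.Modules.pushforward p).obj ((pullSys h F).F k)).IsQuasicoherent :=
    QCoh.isQuasicoherent_pushforward p _
  suffices hb : Function.Bijective (((Scheme.Modules.pushforward p).map (levHom F k)).app ⊤) by
    haveI := isIso_of_bijective_top ((Scheme.Modules.pushforward p).map (levHom F k)) hb
    exact isIso_of_pushforward p _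
  let u := ((Scheme.Modules.pullbackPushforwardAdjunction p).unit.app M).app (topO (R := R)).1
  have hu := K0Sub.app_unit_surjective_and_ker p M (topO (R := R))
  have hfac : ∀ x : Glob F, (levHom F k).app (p ⁻¹ᵁ (topO (R := R)).1)
      (u (toU (ModuleCat.of R (Glob F)) (topO (R := R)).1 x)) = gsec F k x := fun x =>
    (congrArg (fun φ : M ⟶ _ => φ.app (topO (R := R)).1 (toU (ModuleCat.of R (Glob F)) (topO (R := R)).1 x))
      (adjunct_levHom F k)).trans (levMap_toU F k x)
  haveI : IsIso (((pullSys h F).F k).presheaf.map (homOfLE (lvU_cOpen h (topO (R := R)).1 k).ge).op) :=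
    ((pullSys h F).F k).presheaf.map_isIso (eqToHom (congrArg op (lvU_cOpen h (topO (R := R)).1 k)))
  have hres := ConcreteCategory.bijective_of_isIso
    (((pullSys h F).F k).presheaf.map (homOfLE (lvU_cOpen h (topO (R := R)).1 k).ge).op)
  show Function.Bijective ((levHom F k).app (p ⁻¹ᵁ (topO (R := R)).1))
  refine ⟨(injective_iff_map_eq_zero _).2 fun z hz => ?_, fun y => ?_⟩
  · obtain ⟨m, rfl⟩ := hu.1 z
    obtain ⟨x, rfl⟩ := (toU_top_bijective (ModuleCat.of R (Glob F))).2 m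
    have h1 : gpr F k x = 0 := hres.1 ((hfac x).symm.trans (hz.trans (map_zero _).symm))
    refine (hu.2 _).2 ?_
    rw [FSchSys.ker_completionToX, Scheme.IdealSheafData.ideal_pow, Pi.pow_apply, mem_ideal_smul_iff h𝓘]
    exact map_mem J (toU (ModuleCat.of R (Glob F)) (topO (R := R)).1) (k + 1) ((gpr_eq_zero_iff F h𝓘 hJ k x).1 h1)
  · obtain ⟨g, hg⟩ := hres.2 y
    obtain ⟨x, rfl⟩ := gpr_surjective F h𝓘 hJ k g
    exact ⟨_, (hfac x).trans hg⟩

theorem nonempty_iso_complMod
    (har : ∀ (n : ℕ) (K : Submodule R (Fin n → R)), ∃ n₀, ∀ k, K ⊓ J ^ (k + n₀) • ⊤ ≤ J ^ k • K) :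
    Nonempty (F ≅ cT h (ModuleCat.of R (Glob F))) := by
  haveI := isIso_toReal_spec h𝓘 hJ F har
  haveI : ∀ k, IsIso ((sysHom F).app k) := fun k => isIso_levHom F h𝓘 hJ k
  haveI := isIso_realModMap (h := h) (sysHom F)
  exact ⟨asIso (toReal h F) ≪≫ (asIso (FSch.ModSys.realModMap h (sysHom F))).symm⟩

/-- A finitely presented module on the completion of an affine scheme comes from a finitely presented module. -/
theorem exists_finitePresentation_iso_complMod
    (har : ∀ (n : ℕ) (K : Submodule R (Fin n → R)), ∃ n₀, ∀ k, K ⊓ J ^ (k + n₀) • ⊤ ≤ J ^ k • K) :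
    ∃ M : ModuleCat.{u} R, Module.FinitePresentation R M ∧ Nonempty (F ≅ cT h M) :=
  ⟨ModuleCat.of R (Glob F), finitePresentation_glob F h𝓘 hJ har, nonempty_iso_complMod F h𝓘 hJ har⟩

end GrothLib.FFp7
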