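import Groth.Agent.Lib.FFp7.Spec
import Groth.Agent.Lib.FlatFP.Sheaf
import Groth.Agent.Lib.FlatFP.Kernel
import Mathlib.RingTheory.AdicCompletion.Functoriality

/-!
# Global sections of the system of inverse images on an affine formal spectrum
-/

set_option autoImplicit false
set_option linter.style.haveILetI false
set_option linter.unusedSectionVars false
universe u

open CategoryTheory CategoryTheory.Limits AlgebraicGeometry TopologicalSpace Opposite
open GrothLib.FComp7 GrothLib.FMod7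

noncomputable section

namespace GrothLib.FFp7

section Level

variable {𝔛 : FSch.Sys.{u}} {h : 𝔛.IsFormal} {F : FSch.ModF 𝔛 h} [FSch.IsCohF 𝔛 h F]

theorem finitePresentation_level_pres {W : (𝔛.X 0).Opens} (hW : IsAffineOpen W) {ι κ : Type u} [Fintype ι]
    [Fintype κ] {s : ι → ModSite.sect F W} {r : κ → ι → Sec 𝔛 h W} (hP : IsPres F W s r) (k : ℕ) :
    Module.FinitePresentation (LSec 𝔛 h W k) (MSec h W (pullSys h F).F k) := by
  classical
  have h𝔐 : (pullSys h F).IsCoh := isCoh_pullSys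
  haveI := (h𝔐 k).1
  have hQ := hP.pull (FSch.levelMor 𝔛 h k) W (levelMor_meet k W)
  have hV := FFormal7.isAffineOpen_lvU 𝔛 h hW k
  let g : ι → MSec h W (pullSys h F).F k := fun i => psec (FSch.levelMor 𝔛 h k) (s i)
  let rk : κ → ι → LSec 𝔛 h W k := fun j i => proj 𝔛 h W k (r j i)
  let α := Fintype.linearCombination (LSec 𝔛 h W k) g
  have hsurj : Function.Surjective α := fun z => by
    have hz : z ∈ Submodule.span (LSec 𝔛 h W k) (Set.range g) :=
      mem_span_of_locally hV ((pullSys h F).F k) _ z fun y hy => by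
        obtain ⟨V, hV, hyV, hm⟩ := hQ.gen _ le_rfl z y hy
        exact ⟨V, hV, hyV, hm⟩
    obtain ⟨c, hc⟩ := (Submodule.mem_span_range_iff_exists_fun _).1 hz
    exact ⟨c, hc⟩
  have hker : LinearMap.ker α = Submodule.span (LSec 𝔛 h W k) (Set.range rk) := by
    refine le_antisymm (fun a ha => ?_) (Submodule.span_le.2 (Set.range_subset_iff.2 fun j => hQ.rel j))
    refine mem_span_pi_of_locally hV _ _ fun y hy => ?_
    obtain ⟨V', hV', hyV, hm⟩ := hQ.relGen _ le_rfl a (by
      refine Eq.trans (Finset.sum_congr rfl fun i _ => ?_) ha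
      exact congrArg _ (sres_id _)) y hy
    exact ⟨V', hV', hyV, hm⟩
  exact Module.finitePresentation_of_surjective α hsurj (hker ▸ Submodule.fg_span (Set.finite_range rk))

theorem finitePresentation_level {U : (𝔛.X 0).Opens} (hU : IsAffineOpen U) (k : ℕ) :
    Module.FinitePresentation (LSec 𝔛 h U k) (MSec h U (pullSys h F).F k) := by
  have h𝔐 : (pullSys h F).IsCoh := isCoh_pullSys
  haveI := (h𝔐 k).1
  choose W hW hxW _ ι κ hι hκ s r hP using fun x : 𝔛.X 0 => exists_isPres_affine (F := F) (U := ⊤) (x := x) trivial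
  refine FlatFP.finitePresentation_sections _ (FlatFP.isFP_of_sections ((pullSys h F).F k) (fun x => 𝔛.lvU h k (W x))
    (eq_top_iff.2 fun y _ => Opens.mem_iSup.2 ⟨𝔛.gInv h k y, hxW _⟩)
    (fun x => FFormal7.isAffineOpen_lvU 𝔛 h (hW x) k) fun x => ?_) (FFormal7.isAffineOpen_lvU 𝔛 h hU k)
  letI := hι x
  letI := hκ x
  exact finitePresentation_level_pres (hW x) (hP x) k

end Level

variable {R : CommRingCat.{u}} {𝓘 : (Spec R).IdealSheafData} {J : Ideal R}
  {h : (FSch.completionAlong (Spec R) 𝓘).IsFormal} (F : FSch.ModF (FSch.completionAlong (Spec R) 𝓘) h)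

/-- The whole space below the affine scheme. -/
abbrev cTop : ((FSch.completionAlong (Spec R) 𝓘).X 0).Opens := cOpen (𝓘 := 𝓘) (topO (R := R)).1

/-- The global sections of the system of inverse images. -/
def Glob : Type u := Mods h (cTop (R := R) (𝓘 := 𝓘)) (pullSys h F)

instance : AddCommGroup (Glob F) := inferInstanceAs (AddCommGroup (Mods h (cTop (R := R) (𝓘 := 𝓘)) (pullSys h F)))

/-- As a module over the ring of sections. -/
instance : Module (CS h (topO (R := R)).1) (Glob F) :=
  inferInstanceAs (Module (Sec (FSch.completionAlong (Spec R) 𝓘) h (cTop (R := R) (𝓘 := 𝓘)))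
    (Mods h (cTop (R := R) (𝓘 := 𝓘)) (pullSys h F)))

instance : Module R (Glob F) := Module.compHom _ (rho h (topO (R := R)).1)

theorem smul_glob (r : R) (x : Glob F) : r • x = rho h (topO (R := R)).1 r • x := rfl

/-- The projections of global sections. -/
def gpr (k : ℕ) : Glob F →+ MSec h (cTop (R := R) (𝓘 := 𝓘)) (pullSys h F).F k :=
  AddMonoidHom.mk' (mProj h _ (pullSys h F) k) (mProj_add' _ k)

theorem gpr_smul (k : ℕ) (r : R) (x : Glob F) :
    gpr F k (r • x) = cpr h (topO (R := R)).1 k (rho h (topO (R := R)).1 r) • gpr F k x :=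
  sProj_smul h _ _ _ k _ _

variable [FSch.IsCohF (FSch.completionAlong (Spec R) 𝓘) h F]
  (h𝓘 : ∀ U, 𝓘.ideal U = J.map (scal U.1)) (hJ : J.FG) [IsAdicComplete J R]
include h𝓘 hJ

theorem mods_top : Module.Finite (CS h (topO (R := R)).1) (Glob F) ∧
    ∀ k, Function.Surjective (gpr F k) ∧
      ∀ x, gpr F k x = 0 ↔ x ∈ J ^ (k + 1) • (⊤ : Submodule R (Glob F)) := by
  obtain ⟨h1, h2⟩ := mods_package' (h := h) (goodOpen h h𝓘 hJ topO) (isAffineOpen_cOpen (𝓘 := 𝓘) topO)
    (isCoh_pullSys (F := F))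
  refine ⟨h1, fun k => ⟨(h2 k).1, fun x => ((h2 k).2 x).trans ?_⟩⟩
  rw [secIdeal_pow_top h h𝓘 hJ]
  exact FPush7.mem_map_smul_top_iff (rho h (topO (R := R)).1) (fun _ _ => rfl) _ x

theorem finite_glob : Module.Finite R (Glob F) := by
  letI : Algebra R (CS h (topO (R := R)).1) := (rho h (topO (R := R)).1).toAlgebra
  haveI : IsScalarTower R (CS h (topO (R := R)).1) (Glob F) := IsScalarTower.of_algebraMap_smul fun _ _ => rfl
  haveI : Module.Finite R (CS h (topO (R := R)).1) :=
    Module.Finite.of_surjective (Algebra.linearMap _ _) (rho_top_surjective h h𝓘 hJ)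
  haveI := (mods_top F h𝓘 hJ).1
  exact Module.Finite.trans (CS h (topO (R := R)).1) _

theorem gpr_eq_zero_iff (k : ℕ) (x : Glob F) : gpr F k x = 0 ↔ x ∈ J ^ (k + 1) • (⊤ : Submodule R (Glob F)) :=
  ((mods_top F h𝓘 hJ).2 k).2 x

theorem gpr_surjective (k : ℕ) : Function.Surjective (gpr F k) := ((mods_top F h𝓘 hJ).2 k).1

theorem cpr_rho_top_surjective (k : ℕ) :
    Function.Surjective ((cpr h (topO (R := R)).1 k).comp (rho h (topO (R := R)).1)) :=
  (proj_surjective' (goodOpen h h𝓘 hJ topO) (isAffineOpen_cOpen (𝓘 := 𝓘) topO) k).comp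
    (rho_top_surjective h h𝓘 hJ)

/-- The kernel of a presentation of the global sections is finitely generated up to powers of the ideal. -/
theorem fg_ker_sup {n : ℕ} (β : (Fin n → R) →ₗ[R] Glob F) (hβ : Function.Surjective β) (k : ℕ) :
    (LinearMap.ker β ⊔ J ^ (k + 1) • ⊤).FG := by
  classical
  letI : Module R (MSec h (cTop (R := R) (𝓘 := 𝓘)) (pullSys h F).F k) :=
    Module.compHom _ ((cpr h (topO (R := R)).1 k).comp (rho h (topO (R := R)).1))
  let C := FSch.completionAlong (Spec R) 𝓘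
  let L := LSec C h (cTop (R := R) (𝓘 := 𝓘)) k
  letI : Algebra R L := ((cpr h (topO (R := R)).1 k).comp (rho h (topO (R := R)).1)).toAlgebra
  haveI : IsScalarTower R L (MSec h (cTop (R := R) (𝓘 := 𝓘)) (pullSys h F).F k) :=
    IsScalarTower.of_algebraMap_smul fun _ _ => rfl
  haveI : Module.FinitePresentation R L := by
    refine Module.finitePresentation_of_surjective (Algebra.linearMap R L) (cpr_rho_top_surjective (h := h) h𝓘 hJ k) ?_
    rw [show LinearMap.ker (Algebra.linearMap R L) = J ^ (k + 1) from ?_]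
    · exact Submodule.FG.pow hJ _
    ext r
    show cpr h (topO (R := R)).1 k (sh h (topO (R := R)).1 (scal _ r)) = 0 ↔ _
    rw [sharp_eq_zero_iff h h𝓘 topO k, Ideal.mem_map_iff_of_surjective (scal (R := R) ⊤) scal_bijective.2]
    exact ⟨fun ⟨x, hx, e⟩ => scal_bijective.1 e ▸ hx, fun hr => ⟨r, hr, rfl⟩⟩
  haveI := finitePresentation_level (h := h) (F := F) (isAffineOpen_cOpen (𝓘 := 𝓘) (topO (R := R))) k
  haveI : Module.FinitePresentation R (MSec h (cTop (R := R) (𝓘 := 𝓘)) (pullSys h F).F k) :=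
    Module.FinitePresentation.trans R _ L
  let π : Glob F →ₗ[R] MSec h (cTop (R := R) (𝓘 := 𝓘)) (pullSys h F).F k :=
    { toFun := gpr F k, map_add' := map_add _, map_smul' := gpr_smul F k }
  have e : LinearMap.ker (π ∘ₗ β) = LinearMap.ker β ⊔ J ^ (k + 1) • ⊤ := by
    have e1 : LinearMap.ker π = J ^ (k + 1) • (⊤ : Submodule R (Glob F)) :=
      Submodule.ext fun x => gpr_eq_zero_iff F h𝓘 hJ k x
    rw [LinearMap.ker_comp, e1, ← LinearMap.range_eq_top.2 hβ, ← Submodule.map_top, ← Submodule.map_smul'',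
      Submodule.comap_map_eq, sup_comm]
  exact e ▸ Module.FinitePresentation.fg_ker _ ((gpr_surjective F h𝓘 hJ k).comp hβ)

/-- The kernel of a presentation of the global sections is finitely generated, given Artin–Rees. -/
theorem fg_ker_glob {n : ℕ} (β : (Fin n → R) →ₗ[R] Glob F) (hβ : Function.Surjective β) (n₀ : ℕ)
    (har : ∀ k, LinearMap.ker β ⊓ J ^ (k + n₀) • ⊤ ≤ J ^ k • LinearMap.ker β)
    (hK : IsHausdorff J (LinearMap.ker β)) : (LinearMap.ker β).FG := by
  classical
  set K := LinearMap.ker β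
  obtain ⟨s, g, hg⟩ := Submodule.fg_iff_exists_fin_generating_family.1 (fg_ker_sup F h𝓘 hJ β hβ n₀)
  have hmem : ∀ j, g j ∈ K ⊔ J ^ (n₀ + 1) • ⊤ := fun j => hg ▸ Submodule.subset_span ⟨j, rfl⟩
  choose y hy e he hye using fun j => Submodule.mem_sup.1 (hmem j)
  let f : (Fin s → R) →ₗ[R] K := Fintype.linearCombination R (fun j => (⟨y j, hy j⟩ : K))
  have hf : Function.Surjective f := by
    haveI : IsPrecomplete J (Fin s → R) := ⟨fun a ha => by
      choose L hL using fun i => IsPrecomplete.prec (I := J) (M := R) inferInstance (f := fun m => a m i)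
        fun {m m'} hmm => by
          have h1 := SModEq.sub_mem.1 (ha hmm)
          rw [SModEq.sub_mem, smul_eq_mul, Ideal.mul_top]
          exact coord_mem h1 i
      refine ⟨L, fun m => ?_⟩
      rw [SModEq.sub_mem, pi_eq_sum_univ (a m - L)]
      refine Submodule.sum_mem _ fun i _ => Submodule.smul_mem_smul ?_ Submodule.mem_top
      have h1 := SModEq.sub_mem.1 (hL i m)
      rwa [smul_eq_mul, Ideal.mul_top] at h1⟩
    refine surjective_of_mkQ_comp_surjective (I := J) (f := f) fun z => ?_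
    obtain ⟨x, rfl⟩ := Submodule.Quotient.mk_surjective _ z
    have hx : (x : Fin n → R) ∈ Submodule.span R (Set.range g) := hg.symm ▸ Submodule.mem_sup_left x.2
    obtain ⟨c, hc⟩ := (Submodule.mem_span_range_iff_exists_fun _).1 hx
    refine ⟨c, (Submodule.Quotient.eq _).2 ?_⟩
    have h1 : ((f c - x : K) : Fin n → R) ∈ K ⊓ J ^ (1 + n₀) • ⊤ := by
      refine ⟨(f c - x).2, ?_⟩
      rw [Submodule.coe_sub, ← hc, show 1 + n₀ = n₀ + 1 by omega]
      simp only [f, Fintype.linearCombination_apply, AddSubmonoidClass.coe_finsetSum, Submodule.coe_smul]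
      rw [← Finset.sum_sub_distrib]
      refine Submodule.sum_mem _ fun j _ => ?_
      rw [← smul_sub, ← hye j, sub_add_cancel_left]
      exact Submodule.smul_mem _ _ (neg_mem (he j))
    have h2 := har 1 h1
    rw [pow_one] at h2
    exact (Submodule.comap_map_eq_of_injective (f := K.subtype) Subtype.val_injective _).le
      (by rwa [Submodule.mem_comap, Submodule.map_smul'', Submodule.map_subtype_top])
  haveI : Module.Finite R K := Module.Finite.of_surjective f hf
  exact Module.Finite.iff_fg.1 inferInstance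

/-- Global sections are finitely presented, given Artin–Rees. -/
theorem finitePresentation_glob
    (har : ∀ (n : ℕ) (K : Submodule R (Fin n → R)), ∃ n₀, ∀ k, K ⊓ J ^ (k + n₀) • ⊤ ≤ J ^ k • K) :
    Module.FinitePresentation R (Glob F) := by
  haveI := finite_glob F h𝓘 hJ
  obtain ⟨n, β, hβ⟩ := Module.Finite.exists_fin' R (Glob F)
  obtain ⟨n₀, hn₀⟩ := har n (LinearMap.ker β)
  refine Module.finitePresentation_of_surjective β hβ (fg_ker_glob F h𝓘 hJ β hβ n₀ hn₀ ⟨fun x hx => ?_⟩)
  refine Subtype.ext (funext fun i => IsHausdorff.haus (I := J) inferInstance _ fun m => ?_)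
  have h1 := SModEq.sub_mem.1 (hx m)
  rw [sub_zero] at h1
  have h2 := Submodule.mem_map_of_mem (f := (LinearMap.proj i).comp (LinearMap.ker β).subtype) h1
  rw [Submodule.map_smul''] at h2
  rw [SModEq.sub_mem, sub_zero]
  exact Submodule.smul_mono le_rfl le_top h2

theorem span_res_eq_top (U : (Spec R).affineOpens) {n : ℕ} (l : Fin n → Glob F)
    (hl : Submodule.span R (Set.range l) = ⊤) :
    Submodule.span (CS h U.1) (Set.range fun j => (show Mods h (cOpen U.1) (pullSys h F) from
      ((pullSys h F).realMod h).val.map (homOfLE (Scheme.Hom.preimage_mono (FSch.completionToX (Spec R) 𝓘 0)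
        (le_top : U.1 ≤ ⊤))).op (show Mods h (cTop (R := R) (𝓘 := 𝓘)) (pullSys h F) from l j))) = ⊤ := by
  classical
  let C := FSch.completionAlong (Spec R) 𝓘
  have hG := goodOpen h h𝓘 hJ U
  have hU := isAffineOpen_cOpen (𝓘 := 𝓘) U
  have h𝔐 : (pullSys h F).IsCoh := isCoh_pullSys
  haveI := (mods_package' (h := h) hG hU h𝔐).1
  haveI := (h𝔐 0).1
  have hle : cOpen (𝓘 := 𝓘) U.1 ≤ cTop (R := R) (𝓘 := 𝓘) :=
    Scheme.Hom.preimage_mono (FSch.completionToX (Spec R) 𝓘 0) le_top
  let rs : Fin n → Mods h (cOpen U.1) (pullSys h F) := fun j =>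
    ((pullSys h F).realMod h).val.map (homOfLE hle).op (show Mods h (cTop (R := R) (𝓘 := 𝓘)) (pullSys h F) from l j)
  refine eq_top_iff.2 (Submodule.le_of_le_smul_of_le_jacobson_bot Module.Finite.fg_top
    (secIdeal_le_jacobson' hG hU) fun x _ => ?_)
  let f := AddMonoidHom.mk' (mProj h (cOpen U.1) (pullSys h F) 0) (mProj_add' (cOpen U.1) 0)
  suffices H : ∀ z : MSec h (cOpen U.1) (pullSys h F).F 0,
      ∃ y ∈ Submodule.span (CS h U.1) (Set.range rs), f y = z by
    obtain ⟨y, hy, hyx⟩ := H (f x)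
    refine Submodule.mem_sup.2 ⟨y, hy, x - y, ?_, add_sub_cancel _ _⟩
    have h0 : mProj h (cOpen U.1) (pullSys h F) 0 (x - y) = 0 := (map_sub f x y).trans (sub_eq_zero.2 hyx.symm)
    have := (((mods_package' (h := h) hG hU h𝔐).2 0).2 _).1 h0
    simpa using this
  intro z
  have hz := mem_span_res ((pullSys h F).F 0) (FFormal7.isAffineOpen_lvU C h (isAffineOpen_cOpen (𝓘 := 𝓘) topO) 0)
    (FFormal7.isAffineOpen_lvU C h hU 0) ((Opens.map (C.gInv h 0)).map (homOfLE hle)).le z
  refine Submodule.span_induction ?_ ⟨0, zero_mem _, map_zero f⟩ ?_ ?_ hz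
  · rintro _ ⟨t, rfl⟩
    obtain ⟨g, rfl⟩ := gpr_surjective F h𝓘 hJ 0 t
    obtain ⟨c, rfl⟩ := (Submodule.mem_span_range_iff_exists_fun _).1 (hl.symm ▸ Submodule.mem_top : g ∈ _)
    refine ⟨∑ j, rho h U.1 (c j) • rs j, Submodule.sum_mem _ fun j _ => Submodule.smul_mem _ _
      (Submodule.subset_span ⟨j, rfl⟩), ?_⟩
    refine Eq.trans ?_ (sProj_res h (pullSys h F).F (pullSys h F).toPush hle 0 _)
    show mProj h (cOpen U.1) (pullSys h F) 0 _ = mProj h (cOpen U.1) (pullSys h F) 0 _
    refine congrArg _ (Eq.symm ?_)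
    let res := (((pullSys h F).realMod h).val.map (homOfLE hle).op).hom
    refine (map_sum res _ _).trans (Finset.sum_congr rfl fun j _ => ?_)
    refine (PresheafOfModules.map_smul ((pullSys h F).realMod h).val _ (rho h (topO (R := R)).1 (c j)) _).trans ?_
    exact congrArg (· • rs j) (rho_res h le_top (c j))
  · rintro a b _ _ ⟨y, hy, rfl⟩ ⟨y', hy', rfl⟩
    exact ⟨y + y', add_mem hy hy', map_add f y y'⟩
  · rintro c b _ ⟨y, hy, rfl⟩
    obtain ⟨a, rfl⟩ := proj_surjective' hG hU 0 c
    exact ⟨a • y, Submodule.smul_mem _ _ hy, sProj_smul h (cOpen U.1) _ _ 0 a y⟩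

end GrothLib.FFp7
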