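import Groth.Agent.Lib.FMod7.PullIso
import Groth.Agent.Lib.FFp7.Alg
import Groth.Agent.Lib.FSchSys.Completion

/-!
# Sections of finitely presented modules on formal systems without Noetherian hypotheses
-/

set_option autoImplicit false
set_option linter.style.haveILetI false
set_option linter.unusedSectionVars false
universe u

open CategoryTheory CategoryTheory.Limits AlgebraicGeometry TopologicalSpace Opposite
open GrothLib.FMod7

noncomputable section

namespace GrothLib.FFp7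

variable {𝔛 : FSch.Sys.{u}} {h : 𝔛.IsFormal} {U : (𝔛.X 0).Opens}

/-- The system is adic with finitely generated ideal of definition over the open. -/
def GoodOpen (h : 𝔛.IsFormal) (U : (𝔛.X 0).Opens) : Prop :=
  𝔛.IsAdic ∧ (RingHom.ker (toZero 𝔛 h U 1)).FG

section
variable (hG : GoodOpen h U) (hU : IsAffineOpen U)
include hG hU

theorem ring_package' : IsAdicComplete (secIdeal 𝔛 h U) (Sec 𝔛 h U) ∧
    (∀ n, Function.Surjective (proj 𝔛 h U n) ∧ RingHom.ker (proj 𝔛 h U n) = secIdeal 𝔛 h U ^ (n + 1)) ∧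
    (secIdeal 𝔛 h U).FG := by
  refine AdicLim.ring_system (LSec 𝔛 h U) (trans 𝔛 h U) (trans_surjective hU) (toZero 𝔛 h U) rfl (fun _ => rfl)
    (ker_trans_eq_pow hG.1 hU) hG.2 (Sec 𝔛 h U) (proj 𝔛 h U) (fun n => RingHom.ext (trans_proj 𝔛 h U n)) ?_ ?_
  · intro x hx
    exact FFormal7.Osh_section_ext 𝔛 h U x 0 fun n => (hx n).trans (map_zero _).symm
  · exact fun y hy => FFormal7.exists_Osh_section 𝔛 h U y hy

theorem isAdicComplete_Sec' : IsAdicComplete (secIdeal 𝔛 h U) (Sec 𝔛 h U) := (ring_package' hG hU).1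

theorem proj_surjective' (n : ℕ) : Function.Surjective (proj 𝔛 h U n) := ((ring_package' hG hU).2.1 n).1

theorem ker_proj' (n : ℕ) : RingHom.ker (proj 𝔛 h U n) = secIdeal 𝔛 h U ^ (n + 1) :=
  ((ring_package' hG hU).2.1 n).2

theorem secIdeal_le_jacobson' : secIdeal 𝔛 h U ≤ (⊥ : Ideal (Sec 𝔛 h U)).jacobson :=
  haveI := isAdicComplete_Sec' (h := h) hG hU
  IsAdicComplete.le_jacobson_bot _

theorem map_proj_secIdeal_pow' (n : ℕ) :
    (secIdeal 𝔛 h U ^ (n + 1)).map (proj 𝔛 h U (n + 1)) = RingHom.ker (trans 𝔛 h U n) := by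
  rw [← ker_proj' hG hU n]
  refine le_antisymm (Ideal.map_le_iff_le_comap.2 fun x hx => ?_) fun z hz => ?_
  · rw [Ideal.mem_comap, RingHom.mem_ker, trans_proj]
    exact hx
  · obtain ⟨x, rfl⟩ := proj_surjective' hG hU (n + 1) z
    exact Ideal.mem_map_of_mem _ (by rw [RingHom.mem_ker, ← trans_proj]; exact hz)

end

section
variable {𝔐 : FSch.ModSys 𝔛} (hG : GoodOpen h U) (hU : IsAffineOpen U) (h𝔐 : 𝔐.IsCoh)
include hU h𝔐

theorem mTrans_surjective' (k : ℕ) : Function.Surjective (mTrans h U 𝔐 k) := by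
  haveI := (h k).1
  haveI := (h𝔐 (k + 1)).1
  have h1 := (K0Sub.app_unit_surjective_and_ker (𝔛.ι k) (𝔐.F (k + 1))
    ⟨_, FFormal7.isAffineOpen_lvU 𝔛 h hU (k + 1)⟩).1
  haveI : IsIso ((𝔐.F k).presheaf.map (homOfLE (𝔛.lvU_le h k U)).op) :=
    (𝔐.F k).presheaf.map_isIso (eqToHom (congrArg op (𝔛.lvU_succ h k U)))
  intro z
  obtain ⟨y, hy⟩ := (ConcreteCategory.bijective_of_isIso ((𝔐.F k).presheaf.map (homOfLE (𝔛.lvU_le h k U)).op)).2 z
  obtain ⟨w, hw⟩ := (ConcreteCategory.bijective_of_isIso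
    ((𝔐.e k).hom.app (𝔛.ι k ⁻¹ᵁ 𝔛.lvU h (k + 1) U))).2 y
  obtain ⟨m, hm⟩ := h1 w
  refine ⟨m, ?_⟩
  show (𝔐.F k).presheaf.map _ ((𝔐.toPush k).app _ m) = z
  rw [toPush_app, hm, hw]
  exact hy

theorem mTrans_eq_zero_iff' (k : ℕ) (m : MSec h U 𝔐.F (k + 1)) :
    mTrans h U 𝔐 k m = 0 ↔ m ∈ RingHom.ker (trans 𝔛 h U k) • (⊤ : Submodule (LSec 𝔛 h U (k + 1)) _) := by
  haveI := (h k).1
  haveI := (h𝔐 (k + 1)).1
  have h1 := (K0Sub.app_unit_surjective_and_ker (𝔛.ι k) (𝔐.F (k + 1))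
    ⟨_, FFormal7.isAffineOpen_lvU 𝔛 h hU (k + 1)⟩).2 m
  haveI : IsIso ((𝔐.F k).presheaf.map (homOfLE (𝔛.lvU_le h k U)).op) :=
    (𝔐.F k).presheaf.map_isIso (eqToHom (congrArg op (𝔛.lvU_succ h k U)))
  rw [ker_trans hU k, ← h1]
  show (𝔐.F k).presheaf.map _ ((𝔐.toPush k).app _ m) = 0 ↔ _
  rw [toPush_app, map_eq_zero_iff _ (ConcreteCategory.bijective_of_isIso
    ((𝔐.F k).presheaf.map (homOfLE (𝔛.lvU_le h k U)).op)).1]
  exact map_eq_zero_iff _ (ConcreteCategory.bijective_of_isIso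
    ((𝔐.e k).hom.app (𝔛.ι k ⁻¹ᵁ 𝔛.lvU h (k + 1) U))).1

include hG in
theorem mods_package' : Module.Finite (Sec 𝔛 h U) (Mods h U 𝔐) ∧
    (∀ k, Function.Surjective (mProj h U 𝔐 k) ∧
      ∀ x, mProj h U 𝔐 k x = 0 ↔ x ∈ secIdeal 𝔛 h U ^ (k + 1) • (⊤ : Submodule (Sec 𝔛 h U) (Mods h U 𝔐))) := by
  haveI := isAdicComplete_Sec' (h := h) hG hU
  letI : ∀ k, Module (Sec 𝔛 h U) (MSec h U 𝔐.F k) := fun k => Module.compHom _ (proj 𝔛 h U k)
  let f : ∀ k, MSec h U 𝔐.F (k + 1) →ₗ[Sec 𝔛 h U] MSec h U 𝔐.F k := fun k =>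
    { toFun := mTrans h U 𝔐 k
      map_add' := sTrans_add h U _ _ k
      map_smul' := fun a m => by
        show mTrans h U 𝔐 k (proj 𝔛 h U (k + 1) a • m) = proj 𝔛 h U k a • mTrans h U 𝔐 k m
        rw [← trans_proj 𝔛 h U k a]
        exact sTrans_smul h U _ _ k _ m }
  let π : ∀ k, Mods h U 𝔐 →ₗ[Sec 𝔛 h U] MSec h U 𝔐.F k := fun k =>
    { toFun := mProj h U 𝔐 k
      map_add' := sProj_add h U _ _ k
      map_smul' := fun a m => sProj_smul h U _ _ k a m }
  have hker : ∀ (k : ℕ) (K : Ideal (Sec 𝔛 h U)) (m : MSec h U 𝔐.F k),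
      m ∈ K • (⊤ : Submodule (Sec 𝔛 h U) (MSec h U 𝔐.F k)) ↔
        m ∈ K.map (proj 𝔛 h U k) • (⊤ : Submodule (LSec 𝔛 h U k) (MSec h U 𝔐.F k)) := by
    intro k K m
    constructor
    · intro hm
      refine Submodule.smul_induction_on hm (fun a ha x _ => ?_) (fun x y hx hy => add_mem hx hy)
      exact Submodule.smul_mem_smul (Ideal.mem_map_of_mem _ ha) Submodule.mem_top
    · intro hm
      refine Submodule.smul_induction_on hm (fun b hb x _ => ?_) (fun x y hx hy => add_mem hx hy)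
      obtain ⟨a, ha, rfl⟩ := (Ideal.mem_map_iff_of_surjective _ (proj_surjective' hG hU k)).1 hb
      exact Submodule.smul_mem_smul ha Submodule.mem_top
  have hsys : AdicLim.IsLimitSystem (secIdeal 𝔛 h U) f π := by
    refine ⟨mTrans_surjective' hU h𝔐, fun k => ?_, fun k => LinearMap.ext (sTrans_sProj h U _ _ k),
      fun x hx => section_ext h U _ _ x 0 fun k => (hx k).trans (map_zero (π k)).symm, exists_section h U _ _⟩
    ext m
    rw [LinearMap.mem_ker, hker, map_proj_secIdeal_pow' hG hU]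
    exact mTrans_eq_zero_iff' hU h𝔐 k m
  have hfin : Module.Finite (Sec 𝔛 h U) (MSec h U 𝔐.F 0) := by
    haveI := (h𝔐 0).1
    haveI := QCoh.moduleFinite_of_isFiniteType (𝔐.F 0) (h𝔐 0).2 (FFormal7.isAffineOpen_lvU 𝔛 h hU 0)
    letI : Algebra (Sec 𝔛 h U) (LSec 𝔛 h U 0) := (proj 𝔛 h U 0).toAlgebra
    haveI : IsScalarTower (Sec 𝔛 h U) (LSec 𝔛 h U 0) (MSec h U 𝔐.F 0) :=
      IsScalarTower.of_algebraMap_smul fun _ _ => rfl
    haveI : Module.Finite (Sec 𝔛 h U) (LSec 𝔛 h U 0) :=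
      Module.Finite.of_surjective (Algebra.linearMap _ _) (proj_surjective' hG hU 0)
    exact Module.Finite.trans (LSec 𝔛 h U 0) _
  obtain ⟨h1, h2⟩ := hsys.finite_and_ker hfin
  exact ⟨h1, fun k => ⟨hsys.proj_surjective k, fun x => by rw [← h2 k, LinearMap.mem_ker]; rfl⟩⟩

end

section
variable {F : FSch.ModF 𝔛 h} [FSch.IsCohF 𝔛 h F] {W : (𝔛.X 0).Opens} (hG : GoodOpen h W) (hW : IsAffineOpen W)
  {ι κ : Type u} [Fintype ι] [Fintype κ] {s : ι → ModSite.sect F W} {r : κ → ι → Sec 𝔛 h W}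
include hG hW

theorem span_ηSec' (hP : IsPres F W s r) :
    Submodule.span (Sec 𝔛 h W) (Set.range fun i => ηSec F W (s i)) = ⊤ := by
  have h𝔐 : (pullSys h F).IsCoh := isCoh_pullSys
  haveI := (mods_package' (h := h) hG hW h𝔐).1
  haveI := (h𝔐 0).1
  let f := AddMonoidHom.mk' (mProj h W (pullSys h F) 0) (mProj_add' W 0)
  refine eq_top_iff.2 (Submodule.le_of_le_smul_of_le_jacobson_bot Module.Finite.fg_top
    (secIdeal_le_jacobson' hG hW) fun x _ => ?_)
  suffices H : ∀ z : MSec h W (pullSys h F).F 0, ∃ y ∈ Submodule.span (Sec 𝔛 h W)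
      (Set.range fun i => ηSec F W (s i)), f y = z by
    obtain ⟨y, hy, hyx⟩ := H (f x)
    refine Submodule.mem_sup.2 ⟨y, hy, x - y, ?_, add_sub_cancel _ _⟩
    have h0 : mProj h W (pullSys h F) 0 (x - y) = 0 := (map_sub f x y).trans (sub_eq_zero.2 hyx.symm)
    have := (((mods_package' (h := h) hG hW h𝔐).2 0).2 _).1 h0
    simpa using this
  intro z
  have hQ := hP.pull (FSch.levelMor 𝔛 h 0) W (levelMor_meet 0 W)
  have hz : z ∈ Submodule.span (LSec 𝔛 h W 0)
      (Set.range fun i => (show MSec h W (pullSys h F).F 0 from psec (FSch.levelMor 𝔛 h 0) (s i))) :=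
    mem_span_of_locally (FFormal7.isAffineOpen_lvU 𝔛 h hW 0) ((pullSys h F).F 0) _ z fun y hy => by
      obtain ⟨V, hV, hyV, hm⟩ := hQ.gen _ le_rfl z y hy
      exact ⟨V, hV, hyV, hm⟩
  refine Submodule.span_induction ?_ ⟨0, zero_mem _, map_zero f⟩ ?_ ?_ hz
  · rintro _ ⟨i, rfl⟩
    exact ⟨_, Submodule.subset_span ⟨i, rfl⟩, mProj_ηSec W (s i) 0⟩
  · rintro a b _ _ ⟨y, hy, rfl⟩ ⟨y', hy', rfl⟩
    exact ⟨y + y', add_mem hy hy', map_add f y y'⟩
  · rintro c b _ ⟨y, hy, rfl⟩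
    obtain ⟨a, rfl⟩ := proj_surjective' hG hW 0 c
    exact ⟨a • y, Submodule.smul_mem _ _ hy, sProj_smul h W _ _ 0 a y⟩

theorem ηSec_surjective' (hP : IsPres F W s r) : Function.Surjective (ηSec F W) := fun x => by
  obtain ⟨c, hc⟩ := (Submodule.mem_span_range_iff_exists_fun _).1
    ((span_ηSec' hG hW hP).symm ▸ Submodule.mem_top : x ∈ _)
  refine ⟨∑ i, c i • s i, ?_⟩
  refine Eq.trans ((map_sum ((toReal h F).val.app (op W)).hom _ _).trans (Finset.sum_congr rfl fun i _ => ?_)) hc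
  exact ((toReal h F).val.app (op W)).hom.map_smul (c i) (s i)

theorem sum_eq_zero_of_ηSec' (hGP : GoodPres (secIdeal 𝔛 h W) (N := Mods h W (pullSys h F))) (hP : IsPres F W s r)
    (a : ι → Sec 𝔛 h W) (ha : ηSec F W (∑ i, a i • s i) = 0) : ∑ i, a i • s i = 0 := by
  classical
  set T := Submodule.span (Sec 𝔛 h W) (Set.range r)
  let α := Fintype.linearCombination (Sec 𝔛 h W) (fun i => ηSec F W (s i))
  have hα : ∀ b : ι → Sec 𝔛 h W, α b = ηSec F W (∑ i, b i • s i) := fun b =>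
    ((map_sum ((toReal h F).val.app (op W)).hom _ _).trans
      (Finset.sum_congr rfl fun i _ => ((toReal h F).val.app (op W)).hom.map_smul (b i) (s i))).symm
  suffices hT : a ∈ T by
    obtain ⟨c, rfl⟩ := (Submodule.mem_span_range_iff_exists_fun _).1 hT
    calc ∑ i, (∑ k, c k • r k) i • s i = ∑ i, ∑ k, (c k * r k i) • s i := by
          simp [Finset.sum_smul]
      _ = ∑ k, c k • ∑ i, r k i • s i := by
          rw [Finset.sum_comm]
          simp [Finset.smul_sum, mul_smul]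
      _ = 0 := Finset.sum_eq_zero fun k _ => (congrArg (c k • ·) (hP.rel k)).trans (smul_zero _)
  refine ker_le_of_approx (secIdeal 𝔛 h W) (secIdeal_le_jacobson' hG hW) hGP α (fun x => ?_) T ?_ ?_ ((hα a).trans ha)
  · obtain ⟨c, hc⟩ := (Submodule.mem_span_range_iff_exists_fun _).1
      ((span_ηSec' hG hW hP).symm ▸ Submodule.mem_top : x ∈ _)
    exact ⟨c, hc⟩
  · refine Submodule.span_le.2 (Set.range_subset_iff.2 fun k => ?_)
    exact (hα (r k)).trans ((congrArg (ηSec F W) (hP.rel k)).trans (map_zero ((toReal h F).val.app (op W)).hom))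
  intro k a' ha'
  suffices key : ∃ b ∈ T, ∀ i, proj 𝔛 h W k (a' i - b i) = 0 by
    obtain ⟨b, hb, hba⟩ := key
    refine Submodule.mem_sup.2 ⟨b, hb, a' - b, ?_, add_sub_cancel b a'⟩
    rw [pi_eq_sum_univ (a' - b)]
    refine Submodule.sum_mem _ fun i _ => Submodule.smul_mem_smul ?_ Submodule.mem_top
    exact (ker_proj' hG hW k).le (hba i)
  replace ha : ηSec F W (∑ i, a' i • s i) = 0 := (hα a').symm.trans ha'
  clear! a
  have hQ := hP.pull (FSch.levelMor 𝔛 h k) W (levelMor_meet k W)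
  let V := (FSch.levelMor 𝔛 h k).fn.obj W
  letI : Module ((𝔛.X k).sheaf.obj.obj (op V)) (ModSite.sect ((FSch.levelMor 𝔛 h k).pull.obj F) V) :=
    moduleSect (O := (𝔛.X k).sheaf) ((FSch.levelMor 𝔛 h k).pull.obj F) V
  let u := ((FSch.levelMor 𝔛 h k).adj.unit.app F).val.app (op W)
  have h0 : ∑ i, (pfun (FSch.levelMor 𝔛 h k) (a' i)) •
      psec (FSch.levelMor 𝔛 h k) (s i) = 0 := by
    refine Eq.trans ?_ ((mProj_ηSec W (∑ i, a' i • s i) k).symm.trans ((congrArg (mProj h W (pullSys h F) k) ha).trans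
      (map_zero (AddMonoidHom.mk' (mProj h W (pullSys h F) k) (mProj_add' W k)))))
    exact (Eq.trans (map_sum u.hom _ _) (Finset.sum_congr rfl fun i _ => psec_smul (FSch.levelMor 𝔛 h k) _ _)).symm
  have hmem : (fun i => proj 𝔛 h W k (a' i)) ∈ Submodule.span (LSec 𝔛 h W k)
      (Set.range fun j i => proj 𝔛 h W k (r j i)) :=
    mem_span_pi_of_locally (FFormal7.isAffineOpen_lvU 𝔛 h hW k) _ _ fun y hy => by
      have h1 := hQ.relGen V le_rfl (fun i => pfun (FSch.levelMor 𝔛 h k) (a' i)) (by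
        refine Eq.trans (Finset.sum_congr rfl fun i _ => ?_) h0
        exact congrArg _ (sres_id _)) y hy
      obtain ⟨V', hV', hyV, hm⟩ := h1
      exact ⟨V', hV', hyV, hm⟩
  obtain ⟨c, hc⟩ := (Submodule.mem_span_range_iff_exists_fun _).1 hmem
  choose d hd using fun j => proj_surjective' hG hW k (c j)
  refine ⟨∑ j, d j • r j, Submodule.sum_mem _ fun j _ => Submodule.smul_mem _ _ (Submodule.subset_span ⟨j, rfl⟩),
    fun i => ?_⟩
  rw [map_sub, ← congrFun hc i, Finset.sum_apply, Finset.sum_apply, map_sum, sub_eq_zero]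
  exact Finset.sum_congr rfl fun j _ => by simp [hd]

end


/-- A module of finite presentation is the limit of its inverse images if those have good presentations on a basis. -/
theorem isIso_toReal' {F : FSch.ModF 𝔛 h} [FSch.IsCohF 𝔛 h F]
    (hB : ∀ (V : (𝔛.X 0).Opens), ∀ y ∈ V, ∃ W : (𝔛.X 0).Opens, IsAffineOpen W ∧ y ∈ W ∧ W ≤ V ∧
      GoodOpen h W ∧ GoodPres (secIdeal 𝔛 h W) (N := Mods h W (pullSys h F))) : IsIso (toReal h F) := by
  have hinj : ∀ (U : (𝔛.X 0).Opens) (m : ModSite.sect F U), ηSec F U m = 0 → m = 0 := by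
    intro U m hm
    refine sect_ext F m 0 fun y hy => ?_
    obtain ⟨W, hW, hyW, hWU, ι, κ, hι, hκ, s, r, hP⟩ := exists_isPres_affine (F := F) hy
    obtain ⟨V, hVW, hyV, hV⟩ := hP.gen W le_rfl (sres F hWU m) y hyW
    obtain ⟨W', hW', hyW', hW'V, hG, hGP⟩ := hB V y hyV
    have hW'U : W' ≤ U := hW'V.trans (hVW.trans hWU)
    refine ⟨W', hW'U, hyW', ?_⟩
    obtain ⟨c, hc⟩ := (Submodule.mem_span_range_iff_exists_fun _).1 hV
    have hP' := hP.res (hW'V.trans hVW)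
    have e : sres F hW'U m = ∑ i, ores (𝔛.Osh h) hW'V (c i) • sres F (hW'V.trans hVW) (s i) := by
      rw [← sres_sres (M := F) hWU (hW'V.trans hVW) m, ← sres_sres (M := F) hVW hW'V (sres F hWU m), ← hc, sres_sum]
      exact Finset.sum_congr rfl fun i _ => congrArg _ (sres_sres _ _ _)
    have h0 : ηSec F W' (sres F hW'U m) = 0 :=
      (PresheafOfModules.naturality_apply (toReal h F).val (homOfLE hW'U).op m).trans
        ((congrArg (((pullSys h F).realMod h).val.map (homOfLE hW'U).op) hm).trans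
          (map_zero (((pullSys h F).realMod h).val.map (homOfLE hW'U).op).hom))
    rw [e] at h0 ⊢
    exact (sum_eq_zero_of_ηSec' hG hW' hGP hP' _ h0).trans (map_zero (F.val.map (homOfLE hW'U).op).hom).symm
  haveI : Mono (toReal h F) := Preadditive.mono_of_cancel_zero _ fun {Z} g hg => hom_ext_basis fun U _ z =>
    hinj U _ (congrArg (fun φ : Z ⟶ (pullSys h F).realMod h => φ.val.app (op U) z) hg)
  haveI : Sheaf.IsLocallySurjective ((SheafOfModules.toSheaf _).map (toReal h F)) := by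
    constructor
    intro U z y hy
    obtain ⟨W, hW, hyW, hWU, ι, κ, hι, hκ, s, r, hP⟩ := exists_isPres_affine (F := F) hy
    obtain ⟨W', hW', hyW', hW'W, hG, -⟩ := hB W y hyW
    obtain ⟨x, hx⟩ := ηSec_surjective' hG hW' (hP.res hW'W)
      (((pullSys h F).realMod h).val.map (homOfLE (hW'W.trans hWU)).op z)
    exact ⟨W', homOfLE (hW'W.trans hWU), ⟨x, hx⟩, hyW'⟩
  haveI : Epi (toReal h F) := (SheafOfModules.toSheaf _).epi_of_epi_map inferInstance
  exact isIso_of_mono_of_epi _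

end GrothLib.FFp7
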