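import Groth.Agent.Lib.FFp7.Glob

/-!
# Good presentations on basic opens
-/

set_option autoImplicit false
set_option linter.style.haveILetI false
set_option linter.unusedSectionVars false
universe u

open CategoryTheory CategoryTheory.Limits AlgebraicGeometry TopologicalSpace Opposite
open GrothLib.FComp7 GrothLib.FMod7

noncomputable section

namespace GrothLib.FFp7

theorem mem_pow_smul_top {S : Type*} [CommRing S] {ι : Type*} [Fintype ι] (I : Ideal S) (y : ι → S)
    (hy : ∀ i, y i ∈ I) : y ∈ I • (⊤ : Submodule S (ι → S)) := by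
  classical
  rw [pi_eq_sum_univ y]
  exact Submodule.sum_mem _ fun i _ => Submodule.smul_mem_smul (hy i) Submodule.mem_top

variable {R : CommRingCat.{u}} {𝓘 : (Spec R).IdealSheafData} {J : Ideal R}
  {h : (FSch.completionAlong (Spec R) 𝓘).IsFormal} (h𝓘 : ∀ U, 𝓘.ideal U = J.map (scal U.1)) (hJ : J.FG)

section Step

include h𝓘 hJ
/-- The Artin–Rees property passes to the completed basic open. -/
theorem step_dOpen {n s : ℕ} (kl : Fin s → Fin n → R) (n₀ : ℕ)
    (har : ∀ k, Submodule.span R (Set.range kl) ⊓ J ^ (k + n₀) • ⊤ ≤ J ^ k • Submodule.span R (Set.range kl))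
    (a : R) (k : ℕ) (y : Fin n → CS h (dOpen a).1)
    (hy : y ∈ Submodule.span (CS h (dOpen a).1) (Set.range fun j i => rho h (dOpen a).1 (kl j i)))
    (hyk : y ∈ secIdeal _ h (cOpen (𝓘 := 𝓘) (dOpen a).1) ^ (k + n₀) •
      (⊤ : Submodule (CS h (dOpen a).1) (Fin n → CS h (dOpen a).1))) :
    y ∈ secIdeal _ h (cOpen (𝓘 := 𝓘) (dOpen a).1) ^ k •
        Submodule.span (CS h (dOpen a).1) (Set.range fun j i => rho h (dOpen a).1 (kl j i)) ⊔
      secIdeal _ h (cOpen (𝓘 := 𝓘) (dOpen a).1) ^ (k + n₀ + 1) • ⊤ := by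
  classical
  let ρ := rho h (dOpen a).1
  set 𝔍 := secIdeal _ h (cOpen (𝓘 := 𝓘) (dOpen a).1)
  obtain ⟨c, hc⟩ := (Submodule.mem_span_range_iff_exists_fun _).1 hy
  choose i u hu using fun j => exists_frac h h𝓘 hJ a (k + n₀) (c j)
  let N := ∑ j, i j
  have hle : ∀ j, i j ≤ N := fun j => Finset.single_le_sum (fun x _ => Nat.zero_le (i x)) (Finset.mem_univ j)
  let w : Fin n → R := ∑ j, (a ^ (N - i j) * u j) • kl j
  have hw : ∀ b, ρ (a ^ N) * y b - ρ (w b) ∈ 𝔍 ^ (k + n₀ + 1) := by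
    intro b
    have e : ρ (a ^ N) * y b - ρ (w b) =
        ∑ j, ρ (a ^ (N - i j)) * (ρ (a ^ i j) * c j - ρ (u j)) * ρ (kl j b) := by
      rw [← hc]
      simp only [w, Finset.sum_apply, Pi.smul_apply, smul_eq_mul, map_sum, map_mul, Finset.mul_sum,
        ← Finset.sum_sub_distrib]
      refine Finset.sum_congr rfl fun j _ => ?_
      rw [show ρ (a ^ N) = ρ (a ^ (N - i j)) * ρ (a ^ i j) by rw [← map_mul, ← pow_add, Nat.sub_add_cancel (hle j)]]
      ring
    rw [e]
    exact Ideal.sum_mem _ fun j _ => Ideal.mul_mem_right _ _ (Ideal.mul_mem_left _ _ (hu j))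
  have hwk : ∀ b, ρ (w b) ∈ 𝔍 ^ (k + n₀) := fun b => by
    have h1 := sub_mem ((𝔍 ^ (k + n₀)).mul_mem_left (ρ (a ^ N)) (coord_mem hyk b))
      (Ideal.pow_le_pow_right (Nat.le_succ _) (hw b))
    rwa [sub_sub_cancel] at h1
  choose l hl using fun b => exists_pow_mul_mem h h𝓘 hJ a (k + n₀) (w b) (hwk b)
  let L := ∑ b, l b
  have hL : a ^ L • w ∈ J ^ (k + n₀) • (⊤ : Submodule R (Fin n → R)) := by
    refine mem_pow_smul_top _ _ fun b => ?_
    have hb : l b ≤ L := Finset.single_le_sum (fun x _ => Nat.zero_le (l x)) (Finset.mem_univ b)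
    rw [Pi.smul_apply, smul_eq_mul, ← Nat.sub_add_cancel hb, pow_add a, mul_assoc]
    exact (J ^ (k + n₀)).mul_mem_left _ (hl b)
  have hwK : a ^ L • w ∈ Submodule.span R (Set.range kl) :=
    Submodule.smul_mem _ _ (Submodule.sum_mem _ fun j _ => Submodule.smul_mem _ _ (Submodule.subset_span ⟨j, rfl⟩))
  obtain ⟨d, hd, hde⟩ := (mem_smul_span_range _ kl _).1 (har k ⟨hwK, hL⟩)
  obtain ⟨v, hv⟩ := ((isUnit_rho h h𝓘 a).pow (L + N))
  let t : Fin n → CS h (dOpen a).1 := fun b => (↑v⁻¹ : CS h (dOpen a).1) * ∑ j, ρ (d j) * ρ (kl j b)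
  refine Submodule.mem_sup.2 ⟨t, ?_, y - t, mem_pow_smul_top _ _ fun b => ?_, add_sub_cancel t y⟩
  · refine (mem_smul_span_range _ _ _).2 ⟨fun j => (↑v⁻¹ : CS h (dOpen a).1) * ρ (d j), fun j =>
      Ideal.mul_mem_left _ _ (rho_mem h h𝓘 hJ (dOpen a) (hd j)), funext fun b => ?_⟩
    simp only [t, Finset.sum_apply, Pi.smul_apply, smul_eq_mul, Finset.mul_sum, mul_assoc]
    rfl
  · have hde' : ρ (a ^ L) * ρ (w b) = ∑ j, ρ (d j) * ρ (kl j b) := by
      rw [← map_mul, ← smul_eq_mul, ← Pi.smul_apply, hde]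
      simp only [Finset.sum_apply, Pi.smul_apply, smul_eq_mul, map_sum, map_mul]
    have h1 := (𝔍 ^ (k + n₀ + 1)).mul_mem_left ((↑v⁻¹ : CS h (dOpen a).1) * ρ (a ^ L)) (hw b)
    have e : (↑v⁻¹ : CS h (dOpen a).1) * ρ (a ^ L) * (ρ (a ^ N) * y b - ρ (w b)) = (y - t) b := by
      have hv' : (v : CS h (dOpen a).1) = ρ (a ^ L) * ρ (a ^ N) := by rw [hv, ← map_pow, ← map_mul, pow_add]
      simp only [t, Pi.sub_apply, ← hde']
      rw [mul_sub, mul_assoc, ← mul_assoc (ρ (a ^ L)), ← hv', ← mul_assoc, Units.inv_mul, one_mul, mul_assoc]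
    rwa [e] at h1

end Step

variable (F : FSch.ModF (FSch.completionAlong (Spec R) 𝓘) h) [FSch.IsCohF (FSch.completionAlong (Spec R) 𝓘) h F]
  [IsAdicComplete J R]
include h𝓘 hJ

/-- The inverse images have good presentations on basic opens. -/
theorem goodPres_dOpen
    (har : ∀ (n : ℕ) (K : Submodule R (Fin n → R)), ∃ n₀, ∀ k, K ⊓ J ^ (k + n₀) • ⊤ ≤ J ^ k • K) (a : R) :
    GoodPres (secIdeal _ h (cOpen (𝓘 := 𝓘) (dOpen a).1)) (N := Mods h (cOpen (dOpen a).1) (pullSys h F)) := by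
  classical
  haveI := finite_glob F h𝓘 hJ
  haveI := finitePresentation_glob F h𝓘 hJ har
  obtain ⟨n, β₀, hβ₀⟩ := Module.Finite.exists_fin' R (Glob F)
  obtain ⟨s, kl, hkl⟩ := Submodule.fg_iff_exists_fin_generating_family.1 (Module.FinitePresentation.fg_ker β₀ hβ₀)
  obtain ⟨n₀, hn₀⟩ := har n (LinearMap.ker β₀)
  let C := FSch.completionAlong (Spec R) 𝓘
  let W := cOpen (𝓘 := 𝓘) (dOpen a).1
  have hG := goodOpen h h𝓘 hJ (dOpen a)
  have hW := isAffineOpen_cOpen (𝓘 := 𝓘) (dOpen a)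
  haveI := isAdicComplete_Sec' (h := h) hG hW
  let ρ := rho h (dOpen a).1
  have hle : W ≤ cTop (R := R) (𝓘 := 𝓘) := Scheme.Hom.preimage_mono (FSch.completionToX (Spec R) 𝓘 0) le_top
  let res := (((pullSys h F).realMod h).val.map (homOfLE hle).op).hom
  let l : Fin n → Glob F := fun i => β₀ (Pi.single i 1)
  let rs : Fin n → Mods h W (pullSys h F) := fun i =>
    res (show Mods h (cTop (R := R) (𝓘 := 𝓘)) (pullSys h F) from l i)
  have hl : ∀ c : Fin n → R, β₀ c = ∑ i, c i • l i := fun c => by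
    conv_lhs => rw [pi_eq_sum_univ' c]
    rw [map_sum]
    exact Finset.sum_congr rfl fun i _ => map_smul _ _ _
  let β := Fintype.linearCombination (CS h (dOpen a).1) rs
  have hres : ∀ c : Fin n → R, res (show Mods h (cTop (R := R) (𝓘 := 𝓘)) (pullSys h F) from β₀ c) =
      β fun i => ρ (c i) := by
    intro c
    rw [hl]
    refine (map_sum res _ _).trans (Finset.sum_congr rfl fun i _ => ?_)
    refine (PresheafOfModules.map_smul ((pullSys h F).realMod h).val _ (rho h (topO (R := R)).1 (c i)) _).trans ?_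
    exact congrArg (· • rs i) (rho_res h le_top (c i))
  refine goodPres_of_relations (secIdeal _ h W) (n := n) β ?_ (fun j i => ρ (kl j i)) (fun j => ?_) n₀
    (fun k y hy hyk => step_dOpen h𝓘 hJ kl n₀ (by rwa [hkl]) a k y hy hyk) fun m c hc => ?_
  · intro x
    have hl' : Submodule.span R (Set.range l) = ⊤ := eq_top_iff.2 fun z _ => by
      obtain ⟨c, rfl⟩ := hβ₀ z
      exact (Submodule.mem_span_range_iff_exists_fun _).2 ⟨c, (hl c).symm⟩
    obtain ⟨c, hc⟩ := (Submodule.mem_span_range_iff_exists_fun _).1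
      ((span_res_eq_top F h𝓘 hJ (dOpen a) l hl').symm ▸ Submodule.mem_top : x ∈ _)
    exact ⟨c, hc⟩
  · refine (hres (kl j)).symm.trans ?_
    have h0 : β₀ (kl j) = 0 := LinearMap.mem_ker.1 (hkl ▸ Submodule.subset_span ⟨j, rfl⟩)
    rw [h0]
    exact map_zero res
  · suffices key : ∃ d ∈ Submodule.span (CS h (dOpen a).1) (Set.range fun j i => ρ (kl j i)),
        ∀ i, cpr h (dOpen a).1 m (c i - d i) = 0 by
      obtain ⟨d, hd, hcd⟩ := key
      refine Submodule.mem_sup.2 ⟨d, hd, c - d, mem_pow_smul_top _ _ fun i => ?_, add_sub_cancel d c⟩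
      exact Ideal.pow_le_pow_right (Nat.le_succ m) ((ker_proj' hG hW m).le (hcd i))
    haveI := ((isCoh_pullSys (F := F)) m).1
    let V := C.lvU h m W
    let g : Fin n → MSec h (cTop (R := R) (𝓘 := 𝓘)) (pullSys h F).F m := fun i => gpr F m (l i)
    have hVU : V ≤ C.lvU h m (cTop (R := R) (𝓘 := 𝓘)) := ((Opens.map (C.gInv h m)).map (homOfLE hle)).le
    have hrel : ∑ i, cpr h (dOpen a).1 m (c i) • ((pullSys h F).F m).presheaf.map (homOfLE hVU).op (g i) = 0 := by
      refine Eq.trans ?_ ((congrArg (mProj h W (pullSys h F) m) hc).trans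
        (map_zero (AddMonoidHom.mk' (mProj h W (pullSys h F) m) (mProj_add' W m))))
      refine Eq.symm (Eq.trans (map_sum (AddMonoidHom.mk' (mProj h W (pullSys h F) m) (mProj_add' W m))
        (fun i => c i • rs i) Finset.univ) (Finset.sum_congr rfl fun i _ => ?_))
      refine (sProj_smul h W _ _ m (c i) (rs i)).trans (congrArg (cpr h (dOpen a).1 m (c i) • ·) ?_)
      exact sProj_res h (pullSys h F).F (pullSys h F).toPush hle m _
    have hmem := mem_span_relations ((pullSys h F).F m)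
      (FFormal7.isAffineOpen_lvU C h (isAffineOpen_cOpen (𝓘 := 𝓘) topO) m) (FFormal7.isAffineOpen_lvU C h hW m)
      hVU g (fun i => cpr h (dOpen a).1 m (c i)) hrel
    suffices H : ∀ z ∈ Submodule.span (LSec C h W m) ((fun b : Fin n → LSec C h (cTop (R := R) (𝓘 := 𝓘)) m =>
        fun i => (C.X m).presheaf.map (homOfLE hVU).op (b i)) '' {b | ∑ i, b i • g i = 0}),
        ∃ d ∈ Submodule.span (CS h (dOpen a).1) (Set.range fun j i => ρ (kl j i)),
          ∀ i, cpr h (dOpen a).1 m (d i) = z i by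
      obtain ⟨d, hd, hdz⟩ := H _ hmem
      exact ⟨d, hd, fun i => by rw [map_sub, hdz, sub_self]⟩
    intro z hz
    refine Submodule.span_induction ?_ ⟨0, zero_mem _, fun i => map_zero _⟩ ?_ ?_ hz
    · rintro _ ⟨b, hb, rfl⟩
      choose u hu using fun i => cpr_rho_top_surjective (h := h) h𝓘 hJ m (b i)
      have h1 : gpr F m (β₀ u) = 0 := by
        rw [hl, map_sum]
        refine Eq.trans (Finset.sum_congr rfl fun i _ => ?_) hb
        rw [gpr_smul]
        exact congrArg (· • g i) (hu i)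
      have h2 := (gpr_eq_zero_iff F h𝓘 hJ m _).1 h1
      rw [← LinearMap.range_eq_top.2 hβ₀, ← Submodule.map_top, ← Submodule.map_smul''] at h2
      obtain ⟨e, he, hee⟩ := h2
      have hk : u - e ∈ Submodule.span R (Set.range kl) := hkl.symm ▸ LinearMap.mem_ker.2 (by rw [map_sub, hee, sub_self])
      obtain ⟨q, hq⟩ := (Submodule.mem_span_range_iff_exists_fun _).1 hk
      refine ⟨∑ j, ρ (q j) • fun i => ρ (kl j i), Submodule.sum_mem _ fun j _ => Submodule.smul_mem _ _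
        (Submodule.subset_span ⟨j, rfl⟩), fun i => ?_⟩
      have e1 : (∑ j, ρ (q j) • fun i => ρ (kl j i)) i = ρ (u i) - ρ (e i) := by
        rw [← map_sub, ← Pi.sub_apply, ← hq]
        simp only [Finset.sum_apply, Pi.smul_apply, smul_eq_mul, map_sum, map_mul]
      have e2 : cpr h (dOpen a).1 m (ρ (e i)) = 0 := by
        rw [← RingHom.mem_ker]
        exact (ker_proj' hG hW m).ge (rho_mem h h𝓘 hJ (dOpen a) (coord_mem he i))
      rw [e1, map_sub, e2, sub_zero]
      refine Eq.trans ?_ (congrArg ((C.X m).presheaf.map (homOfLE hVU).op) (hu i))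
      exact (congrArg (cpr h (dOpen a).1 m) (rho_res h le_top (u i)).symm).trans
        (proj_res h (cTop (R := R) (𝓘 := 𝓘)) hle m (rho h (topO (R := R)).1 (u i)))
    · rintro x y _ _ ⟨d, hd, hdx⟩ ⟨d', hd', hdy⟩
      exact ⟨d + d', add_mem hd hd', fun i => by rw [Pi.add_apply, map_add, hdx, hdy]; rfl⟩
    · rintro q x _ ⟨d, hd, hdx⟩
      obtain ⟨q', rfl⟩ := proj_surjective' hG hW m q
      exact ⟨q' • d, Submodule.smul_mem _ _ hd, fun i => by rw [Pi.smul_apply, smul_eq_mul, map_mul, hdx]; rfl⟩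

/-- A finitely presented module is the module of the system of its inverse images. -/
theorem isIso_toReal_spec
    (har : ∀ (n : ℕ) (K : Submodule R (Fin n → R)), ∃ n₀, ∀ k, K ⊓ J ^ (k + n₀) • ⊤ ≤ J ^ k • K) :
    IsIso (toReal h F) :=
  isIso_toReal' fun V y hy => by
    obtain ⟨a, hya, ha⟩ := exists_cOpen_nbhd (𝓘 := 𝓘) V y hy
    exact ⟨_, isAffineOpen_cOpen (𝓘 := 𝓘) (dOpen a), hya, ha, goodOpen h h𝓘 hJ (dOpen a),
      goodPres_dOpen h𝓘 hJ F har a⟩

end GrothLib.FFp7
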