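import Groth.Agent.Lib.FComp7.Global
import Groth.Agent.Lib.FFp7.Levels

/-!
# Rings of sections of the completion of an affine scheme
-/

set_option autoImplicit false
set_option linter.style.haveILetI false
set_option linter.unusedSectionVars false
universe u

open CategoryTheory CategoryTheory.Limits AlgebraicGeometry TopologicalSpace Opposite
open GrothLib.FComp7 GrothLib.FMod7

noncomputable section

namespace GrothLib.FFp7

variable {R : CommRingCat.{u}} {𝓘 : (Spec R).IdealSheafData} {J : Ideal R}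
  (h : (FSch.completionAlong (Spec R) 𝓘).IsFormal)

/-- The completed ring over an open. -/
abbrev CS (U : (Spec R).Opens) : Type u := Sec (FSch.completionAlong (Spec R) 𝓘) h (cOpen U)

/-- Functions in the completion. -/
abbrev rho (U : (Spec R).Opens) : R →+* CS h U := ((kap h).sharp.hom.app (op U)).hom.comp (scal U)

/-- The map on functions to the completion. -/
abbrev sh (U : (Spec R).Opens) : Γ(Spec R, U) →+* CS h U := ((kap h).sharp.hom.app (op U)).hom

/-- The projection to a level of the completion. -/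
abbrev cpr (U : (Spec R).Opens) (k : ℕ) : CS h U →+* LSec (FSch.completionAlong (Spec R) 𝓘) h (cOpen U) k :=
  proj (FSch.completionAlong (Spec R) 𝓘) h (cOpen U) k

theorem proj_sharp (U : (Spec R).Opens) (k : ℕ) (x : Γ(Spec R, U)) :
    cpr h U k (sh h U x) =
      (FSch.completionToX (Spec R) 𝓘 k).appLE U _ (lvU_cOpen h U k).le x :=
  congrArg (fun φ : (Spec R).sheaf ⟶ _ => φ.hom.app (op U) x)
    (FSch.schSharp_proj (FSch.completionAlong (Spec R) 𝓘) h (FSch.completionToX (Spec R) 𝓘)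
      (FSch.completionToX_comm (Spec R) 𝓘) k)

theorem rho_res {U V : (Spec R).Opens} (hVU : V ≤ U) (r : R) :
    ores ((FSch.completionAlong (Spec R) 𝓘).Osh h) (Scheme.Hom.preimage_mono (FSch.completionToX (Spec R) 𝓘 0) hVU)
      (rho h U r) = rho h V r :=
  (ConcreteCategory.congr_hom ((kap h).sharp.hom.naturality (homOfLE hVU).op) (scal U r)).symm.trans
    (congrArg ((kap h).sharp.hom.app (op V)).hom
      (ConcreteCategory.congr_hom ((Spec R).presheaf.map_comp U.leTop.op (homOfLE hVU).op)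
        ((Scheme.ΓSpecIso R).inv r)).symm)

theorem scal_bijective : Function.Bijective (scal (R := R) ⊤) := by
  have e : (scal (R := R) ⊤) = (Scheme.ΓSpecIso R).inv.hom := by
    refine RingHom.ext fun r => ?_
    show (Spec R).presheaf.map ((⊤ : (Spec R).Opens).leTop).op ((Scheme.ΓSpecIso R).inv r) = _
    rw [show ((⊤ : (Spec R).Opens).leTop).op = 𝟙 _ from rfl]
    simp
  rw [e]
  exact ConcreteCategory.bijective_of_isIso (Scheme.ΓSpecIso R).inv

variable (h𝓘 : ∀ U, 𝓘.ideal U = J.map (scal U.1))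
include h𝓘

theorem sharp_surjective (U : (Spec R).affineOpens) (k : ℕ) :
    Function.Surjective fun x : Γ(Spec R, U.1) => cpr h U.1 k ((sh h U.1) x) := by
  simp only [proj_sharp]
  haveI : IsClosedImmersion (FSch.completionToX (Spec R) 𝓘 k) :=
    inferInstanceAs (IsClosedImmersion (𝓘 ^ (k + 1)).subschemeι)
  haveI : IsIso (((FSch.completionAlong (Spec R) 𝓘).X k).presheaf.map (homOfLE (lvU_cOpen h U.1 k).le).op) :=
    ((FSch.completionAlong (Spec R) 𝓘).X k).presheaf.map_isIso (eqToHom (congrArg op (lvU_cOpen h U.1 k).symm))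
  intro y
  obtain ⟨w, hw⟩ := (ConcreteCategory.bijective_of_isIso
    (((FSch.completionAlong (Spec R) 𝓘).X k).presheaf.map (homOfLE (lvU_cOpen h U.1 k).le).op)).2 y
  obtain ⟨x, hx⟩ := (FSch.completionToX (Spec R) 𝓘 k).app_surjective U.1 U.2 w
  refine ⟨x, ?_⟩
  rw [← hw, ← hx]
  rfl

theorem sharp_eq_zero_iff (U : (Spec R).affineOpens) (k : ℕ) (x : Γ(Spec R, U.1)) :
    cpr h U.1 k ((sh h U.1) x) = 0 ↔ x ∈ (J ^ (k + 1)).map (scal U.1) := by
  haveI : IsClosedImmersion (FSch.completionToX (Spec R) 𝓘 k) :=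
    inferInstanceAs (IsClosedImmersion (𝓘 ^ (k + 1)).subschemeι)
  rw [proj_sharp, ← RingHom.mem_ker, ker_appLE_of_eq _ U _ _ (lvU_cOpen h U.1 k), FSchSys.ker_completionToX,
    Scheme.IdealSheafData.ideal_pow, Pi.pow_apply, h𝓘, Ideal.map_pow]

omit h𝓘 in
theorem isAffineOpen_cOpen (U : (Spec R).affineOpens) : IsAffineOpen (cOpen (𝓘 := 𝓘) U.1) :=
  haveI : IsClosedImmersion (FSch.completionToX (Spec R) 𝓘 0) :=
    inferInstanceAs (IsClosedImmersion (𝓘 ^ (0 + 1)).subschemeι)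
  U.2.preimage (FSch.completionToX (Spec R) 𝓘 0)

theorem goodOpen (hJ : J.FG) (U : (Spec R).affineOpens) : GoodOpen h (cOpen (𝓘 := 𝓘) U.1) := by
  refine ⟨FSchSys.isAdic_completionAlong 𝓘, ?_⟩
  let C := FSch.completionAlong (Spec R) 𝓘
  have e : toZero C h (cOpen U.1) 1 = trans C h (cOpen U.1) 0 := rfl
  rw [show RingHom.ker (toZero C h (cOpen U.1) 1) = J.map ((cpr h U.1 1).comp (rho h U.1)) from ?_]
  · exact hJ.map _
  rw [e]
  refine le_antisymm (fun z hz => ?_) (Ideal.map_le_iff_le_comap.2 fun r hr => ?_)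
  · obtain ⟨x, rfl⟩ := sharp_surjective h h𝓘 U 1 z
    rw [RingHom.mem_ker, trans_proj, sharp_eq_zero_iff h h𝓘 U 0] at hz
    rw [zero_add, pow_one] at hz
    have := Ideal.mem_map_of_mem ((cpr h U.1 1).comp (sh h U.1)) hz
    exact (Ideal.map_map (I := J) (scal U.1) ((cpr h U.1 1).comp (sh h U.1))).le this
  · rw [Ideal.mem_comap, RingHom.mem_ker, RingHom.comp_apply, trans_proj]
    refine (sharp_eq_zero_iff h h𝓘 U 0 _).2 ?_
    rw [zero_add, pow_one]
    exact Ideal.mem_map_of_mem _ hr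

theorem mem_secPow_iff (hJ : J.FG) (U : (Spec R).affineOpens) (k : ℕ) (x : Γ(Spec R, U.1)) :
    (sh h U.1) x ∈ secIdeal _ h (cOpen (𝓘 := 𝓘) U.1) ^ k ↔
      x ∈ (J ^ k).map (scal U.1) := by
  cases k with
  | zero => simp only [pow_zero, Ideal.one_eq_top, Ideal.map_top, Submodule.mem_top]
  | succ k =>
    rw [← ker_proj' (goodOpen h h𝓘 hJ U) (isAffineOpen_cOpen (𝓘 := 𝓘) U) k, RingHom.mem_ker,
      sharp_eq_zero_iff h h𝓘 U k]

theorem rho_mem (hJ : J.FG) (U : (Spec R).affineOpens) {k : ℕ} {r : R} (hr : r ∈ J ^ k) :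
    rho h U.1 r ∈ secIdeal _ h (cOpen (𝓘 := 𝓘) U.1) ^ k :=
  (mem_secPow_iff h h𝓘 hJ U k _).2 (Ideal.mem_map_of_mem _ hr)

theorem exists_sharp_approx (hJ : J.FG) (U : (Spec R).affineOpens) (k : ℕ) (s : CS h U.1) :
    ∃ x : Γ(Spec R, U.1), s - (sh h U.1) x ∈ secIdeal _ h (cOpen (𝓘 := 𝓘) U.1) ^ (k + 1) := by
  obtain ⟨x, hx⟩ := sharp_surjective h h𝓘 U k (cpr h U.1 k s)
  refine ⟨x, ?_⟩
  rw [← ker_proj' (goodOpen h h𝓘 hJ U) (isAffineOpen_cOpen (𝓘 := 𝓘) U) k, RingHom.mem_ker, map_sub]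
  exact sub_eq_zero.2 hx.symm

omit h𝓘 in
theorem isLocalization_scal (a : R) : letI := (scal (dOpen a).1).toAlgebra
    IsLocalization.Away a Γ(Spec R, (dOpen a).1) := by
  letI := (scal (dOpen a).1).toAlgebra
  have e : (scal (dOpen a).1).toAlgebra = StructureSheaf.openAlgebra R (op (PrimeSpectrum.basicOpen a)) :=
    Algebra.algebra_ext _ _ fun r => rfl
  rw [e]
  exact StructureSheaf.IsLocalization.to_basicOpen R a

/-- Sections over a basic open are fractions up to powers of the ideal. -/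
theorem exists_frac (hJ : J.FG) (a : R) (k : ℕ) (s : CS h (dOpen a).1) :
    ∃ (i : ℕ) (u : R), rho h (dOpen a).1 (a ^ i) * s - rho h (dOpen a).1 u ∈
      secIdeal _ h (cOpen (𝓘 := 𝓘) (dOpen a).1) ^ (k + 1) := by
  letI := (scal (dOpen a).1).toAlgebra
  haveI := isLocalization_scal a
  obtain ⟨x, hx⟩ := exists_sharp_approx h h𝓘 hJ (dOpen a) k s
  obtain ⟨⟨u, ⟨_, i, rfl⟩⟩, hu⟩ := IsLocalization.surj (Submonoid.powers a) x
  refine ⟨i, u, ?_⟩
  have e : (sh h (dOpen a).1) x * rho h (dOpen a).1 (a ^ i) = rho h (dOpen a).1 u :=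
    (map_mul _ _ _).symm.trans (congrArg (sh h (dOpen a).1) hu)
  rw [← e, mul_comm ((sh h (dOpen a).1) x), ← mul_sub]
  exact Ideal.mul_mem_left _ _ hx

/-- A function in a power of the completed ideal over a basic open is so up to powers. -/
theorem exists_pow_mul_mem (hJ : J.FG) (a : R) (k : ℕ) (u : R)
    (hu : rho h (dOpen a).1 u ∈ secIdeal _ h (cOpen (𝓘 := 𝓘) (dOpen a).1) ^ k) :
    ∃ l : ℕ, a ^ l * u ∈ J ^ k := by
  letI := (scal (dOpen a).1).toAlgebra
  haveI := isLocalization_scal a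
  have h1 := (mem_secPow_iff h h𝓘 hJ (dOpen a) k _).1 hu
  obtain ⟨⟨⟨v, hv⟩, ⟨_, i, rfl⟩⟩, hv'⟩ := (IsLocalization.mem_map_algebraMap_iff (Submonoid.powers a)
    Γ(Spec R, (dOpen a).1)).1 h1
  obtain ⟨⟨_, l, rfl⟩, hl⟩ := (IsLocalization.eq_iff_exists (Submonoid.powers a) Γ(Spec R, (dOpen a).1)
    (x := u * a ^ i) (y := v)).1 (by rw [map_mul]; exact hv')
  refine ⟨l + i, ?_⟩
  rw [pow_add, mul_assoc, mul_comm (a ^ i)]
  exact (congrArg (· ∈ J ^ k) hl).mpr ((J ^ k).mul_mem_left _ hv)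

theorem isUnit_rho (a : R) : IsUnit (rho h (dOpen a).1 a) := by
  letI := (scal (dOpen a).1).toAlgebra
  haveI := isLocalization_scal a
  exact (IsLocalization.Away.algebraMap_isUnit (S := Γ(Spec R, (dOpen a).1)) a).map (sh h (dOpen a).1)

theorem rho_top_surjective (hJ : J.FG) [IsAdicComplete J R] :
    Function.Surjective (rho h (topO (R := R)).1) := by
  intro s
  have hex : ∀ k, ∃ u : R, s - rho h (topO (R := R)).1 u ∈ secIdeal _ h (cOpen (𝓘 := 𝓘) (topO (R := R)).1) ^ (k + 1) := by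
    intro k
    obtain ⟨x, hx⟩ := exists_sharp_approx h h𝓘 hJ topO k s
    obtain ⟨u, rfl⟩ := scal_bijective.2 x
    exact ⟨u, hx⟩
  choose u hu using hex
  have hmem : ∀ (k : ℕ) (r : R), rho h (topO (R := R)).1 r ∈ secIdeal _ h (cOpen (𝓘 := 𝓘) (topO (R := R)).1) ^ k →
      r ∈ J ^ k := by
    intro k r hr
    have h1 := (mem_secPow_iff h h𝓘 hJ topO k _).1 hr
    obtain ⟨r', hr', e⟩ := (Ideal.mem_map_iff_of_surjective (scal (R := R) ⊤) scal_bijective.2).1 h1
    rwa [scal_bijective.1 e] at hr'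
  obtain ⟨L, hL⟩ := IsPrecomplete.prec (I := J) (M := R) inferInstance (f := u) (by
    intro m n hmn
    rw [SModEq.sub_mem, smul_eq_mul, Ideal.mul_top]
    refine hmem m _ ?_
    rw [map_sub, show rho h (topO (R := R)).1 (u m) - rho h (topO (R := R)).1 (u n) =
      (s - rho h (topO (R := R)).1 (u n)) - (s - rho h (topO (R := R)).1 (u m)) by abel]
    exact sub_mem (Ideal.pow_le_pow_right (by omega) (hu n)) (Ideal.pow_le_pow_right (by omega) (hu m)))
  haveI := isAdicComplete_Sec' (goodOpen h h𝓘 hJ (topO (R := R))) (isAffineOpen_cOpen (𝓘 := 𝓘) (topO (R := R)))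
  refine ⟨L, (sub_eq_zero.1 (IsHausdorff.haus (I := secIdeal _ h (cOpen (𝓘 := 𝓘) (topO (R := R)).1)) inferInstance
    (s - rho h (topO (R := R)).1 L) fun n => ?_)).symm⟩
  rw [SModEq.sub_mem, sub_zero, smul_eq_mul, Ideal.mul_top]
  have h2 := SModEq.sub_mem.1 (hL n)
  rw [smul_eq_mul, Ideal.mul_top] at h2
  have := add_mem (Ideal.pow_le_pow_right (Nat.le_succ n) (hu n)) (rho_mem h h𝓘 hJ topO h2)
  rwa [map_sub, sub_add_sub_cancel] at this

theorem secIdeal_pow_top (hJ : J.FG) [IsAdicComplete J R] (k : ℕ) :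
    secIdeal _ h (cOpen (𝓘 := 𝓘) (topO (R := R)).1) ^ k = (J ^ k).map (rho h (topO (R := R)).1) := by
  refine le_antisymm (fun s hs => ?_) (Ideal.map_le_iff_le_comap.2 fun r hr => rho_mem h h𝓘 hJ topO hr)
  obtain ⟨r, rfl⟩ := rho_top_surjective h h𝓘 hJ s
  obtain ⟨r', hr', e⟩ := (Ideal.mem_map_iff_of_surjective (scal (R := R) ⊤) scal_bijective.2).1
    ((mem_secPow_iff h h𝓘 hJ topO k _).1 hs)
  rw [← scal_bijective.1 e]
  exact Ideal.mem_map_of_mem _ hr'

end GrothLib.FFp7
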